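import Cfsg.Agent.H18.Walter.OddLin

/-!
The linear lemma for a group of automorphisms of an elementary abelian 2-group written
multiplicatively: it leaves a proper nontrivial subgroup invariant.
-/

set_option autoImplicit false

namespace Cfsg.Agent.H18.Walter

variable {W : Type*} [CommGroup W] [Finite W]

/-- The action on the additive copy. -/
@[reducible] def additiveAction (H : Subgroup (MulAut W)) : DistribMulAction H (Additive W) where
  smul h w := Additive.ofMul (h.1 (Additive.toMul w))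
  one_smul _ := rfl
  mul_smul _ _ _ := rfl
  smul_zero h := congrArg Additive.ofMul (map_one h.1)
  smul_add h _ _ := congrArg Additive.ofMul (map_mul h.1 _ _)

/-- An odd group of automorphisms with an element fixing `Q` and cyclically transitive on `V#`,
`W = Q × V`, `|Q| ≤ |V|`, `16 ≤ |W|`, is reducible. -/
theorem exists_invariant (hW : ∀ w : W, w * w = 1) (h16 : 16 ≤ Nat.card W)
    (H : Subgroup (MulAut W)) [Group.IsSolvable H] (hodd : Odd (Nat.card H))
    (τ : MulAut W) (hτ : τ ∈ H) (Q V : Subgroup W) (hQ1 : Q ≠ ⊥)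
    (hfix : ∀ q ∈ Q, τ q = q) (hV : ∀ v ∈ V, τ v ∈ V)
    (htrans : ∀ v ∈ V, v ≠ 1 → ∀ v' ∈ V, v' ≠ 1 → ∃ i : ℕ, (τ ^ i) v = v')
    (hQV : IsCompl Q V) (hle : Nat.card Q ≤ Nat.card V) :
    ∃ X : Subgroup W, X ≠ ⊥ ∧ X ≠ ⊤ ∧ ∀ φ ∈ H, ∀ x ∈ X, φ x ∈ X := by
  classical
  by_contra hirr
  letI := additiveAction H
  let y : H := ⟨τ, hτ⟩
  have hyi : ∀ (i : ℕ) (w : W), y ^ i • Additive.ofMul w = Additive.ofMul ((τ ^ i) w) := fun i w => by
    show Additive.ofMul (((y ^ i : H) : MulAut W) w) = _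
    rw [SubmonoidClass.coe_pow]
  have hprod : Function.Bijective (fun p : Q × V => (p.1 : W) * p.2) := by
    refine ⟨fun p q h => ?_, fun w => ?_⟩
    · exact Subgroup.mul_injective_of_disjoint hQV.disjoint h
    · obtain ⟨q, hq, v, hv, rfl⟩ := Subgroup.mem_sup_of_normal_left.1
        (hQV.sup_eq_top ▸ Subgroup.mem_top w : w ∈ Q ⊔ V)
      exact ⟨(⟨q, hq⟩, ⟨v, hv⟩), rfl⟩
  have hcard : Nat.card W = Nat.card Q * Nat.card V := by
    rw [← Nat.card_eq_of_bijective _ hprod, Nat.card_prod]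
  obtain ⟨n, hn⟩ : ∃ n, Nat.card V = 2 ^ n := by
    refine ⟨_, Nat.eq_prime_pow_of_unique_prime_dvd Nat.card_pos.ne' ?_⟩
    intro d hd hdvd
    haveI : Fact d.Prime := ⟨hd⟩
    obtain ⟨v, hv⟩ := exists_prime_orderOf_dvd_card' d hdvd
    have : d ∣ 2 := hv ▸ orderOf_dvd_of_pow_eq_one (Subtype.ext (by
      rw [pow_two]; exact hW v.1))
    exact (Nat.prime_dvd_prime_iff_eq hd Nat.prime_two).1 this
  have hn2 : 2 ≤ n := by
    by_contra hc
    have : 2 ^ n ≤ 2 ^ 1 := Nat.pow_le_pow_right two_pos (by omega)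
    have : Nat.card Q * Nat.card V ≤ 2 * 2 := Nat.mul_le_mul (by omega) (by omega)
    omega
  have hnofix : ∀ v ∈ V, τ v = v → v = 1 := by
    intro v hv hf
    by_contra hv1
    have hall : ∀ i : ℕ, (τ ^ i) v = v := by
      intro i
      induction i with
      | zero => rfl
      | succ i ih =>
        rw [pow_succ]
        show (τ ^ i) (τ v) = v
        rw [hf, ih]
    have hsub : Nat.card V ≤ Nat.card (Fin 2) := Nat.card_le_card_of_injective
      (fun u : V => if u.1 = 1 then (0 : Fin 2) else 1) fun a b hab => Subtype.ext (by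
        by_cases ha : a.1 = 1 <;> by_cases hb : b.1 = 1 <;> simp [ha, hb] at hab ⊢
        · obtain ⟨i, hi⟩ := htrans v hv hv1 a.1 a.2 ha
          obtain ⟨j, hj⟩ := htrans v hv hv1 b.1 b.2 hb
          apply Subtype.ext
          rw [← hi, ← hj, hall, hall])
    rw [hn, Nat.card_fin] at hsub
    have : 2 ^ 2 ≤ 2 ^ n := Nat.pow_le_pow_right two_pos hn2
    omega
  -- the commutator map on `V`
  let D : V → V := fun v => ⟨τ v.1 * v.1, V.mul_mem (hV _ v.2) v.2⟩
  have hinv : ∀ w : W, w⁻¹ = w := fun w => inv_eq_of_mul_eq_one_left (hW w)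
  have hDinj : Function.Injective D := fun a b hab => by
    have h1 : τ a.1 * a.1 = τ b.1 * b.1 := congrArg Subtype.val hab
    apply Subtype.ext
    rw [← mul_inv_eq_one, hinv]
    refine hnofix _ (V.mul_mem a.2 b.2) ?_
    calc τ (a.1 * b.1) = τ a.1 * a.1 * (τ b.1 * b.1) * (a.1 * b.1) := by
          rw [map_mul, mul_mul_mul_comm (τ a.1) a.1 (τ b.1) b.1, mul_assoc, hW, mul_one]
      _ = _ := by rw [h1, hW, one_mul]
  have hrange : ∀ u : Additive W, u ∈ commRange (Additive W) y ↔ Additive.toMul u ∈ V := by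
    intro u
    constructor
    · rintro hu
      obtain ⟨w, rfl⟩ := mem_commRange_iff.1 hu
      obtain ⟨⟨q, v⟩, hw⟩ := hprod.2 (Additive.toMul w)
      show τ (Additive.toMul w) / Additive.toMul w ∈ V
      rw [← hw]
      show τ (q.1 * v.1) / (q.1 * v.1) ∈ V
      rw [map_mul, hfix q.1 q.2, mul_div_mul_left_eq_div]
      exact V.div_mem (hV _ v.2) v.2
    · intro hu
      obtain ⟨v, hv⟩ := (Finite.injective_iff_surjective.1 hDinj) ⟨_, hu⟩
      refine mem_commRange_iff.2 ⟨Additive.ofMul v.1, ?_⟩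
      show Additive.ofMul (τ v.1 / v.1) = u
      apply Additive.toMul.injective
      show τ v.1 / v.1 = Additive.toMul u
      rw [div_eq_mul_inv, hinv]
      exact congrArg Subtype.val hv
  have hone : ∀ i : ℕ, ∀ v ∈ V, v ≠ 1 → (τ ^ i) v = v → y ^ i = 1 := by
    intro i v hv hv1 hvi
    apply Subtype.ext
    rw [SubmonoidClass.coe_pow]
    refine MulEquiv.ext fun w => ?_
    obtain ⟨⟨q, u⟩, rfl⟩ := hprod.2 w
    show (τ ^ i) (q.1 * u.1) = q.1 * u.1
    have hq : ∀ j : ℕ, (τ ^ j) q.1 = q.1 := by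
      intro j
      induction j with
      | zero => rfl
      | succ j ih =>
        rw [pow_succ]
        show (τ ^ j) (τ q.1) = q.1
        rw [hfix q.1 q.2, ih]
    rw [map_mul, hq]
    congr 1
    by_cases hu : u.1 = 1
    · rw [hu, map_one]
    obtain ⟨j, hj⟩ := htrans v hv hv1 u.1 u.2 hu
    rw [← hj]
    calc (τ ^ i) ((τ ^ j) v) = (τ ^ i * τ ^ j) v := rfl
      _ = (τ ^ j * τ ^ i) v := by rw [← pow_add, add_comm, pow_add]
      _ = (τ ^ j) v := congrArg (τ ^ j) hvi
  have hexp : ∀ u : Additive W, u + u = 0 := fun u => congrArg Additive.ofMul (hW _)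
  have hcardC : Nat.card (commRange (Additive W) y) = 2 ^ n := by
    rw [← hn]
    exact Nat.card_congr (Equiv.subtypeEquiv Additive.toMul hrange)
  have hord : orderOf y = 2 ^ n - 1 := by
    obtain ⟨v, hv, hv1⟩ : ∃ v ∈ V, v ≠ 1 := by
      by_contra hc
      push Not at hc
      rw [(Subgroup.eq_bot_iff_forall V).2 hc, Subgroup.card_bot] at hn
      have : 2 ^ 2 ≤ 2 ^ n := Nat.pow_le_pow_right two_pos hn2
      omega
    have hVpow : ∀ i : ℕ, (τ ^ i) v ∈ V := by
      intro i
      induction i with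
      | zero => exact hv
      | succ i ih => rw [pow_succ']; exact hV _ ih
    have hcardne : Nat.card {u : V // u ≠ 1} = 2 ^ n - 1 := by
      have := Fintype.ofFinite V
      rw [Nat.card_eq_fintype_card, Fintype.card_subtype_compl, Fintype.card_subtype_eq,
        ← Nat.card_eq_fintype_card, hn]
    have hne1 : ∀ i : ℕ, (τ ^ i) v ≠ 1 := fun i h => hv1 (by simpa using h)
    let F : Fin (orderOf y) → {u : V // u ≠ 1} := fun i =>
      ⟨⟨(τ ^ (i : ℕ)) v, hVpow _⟩, fun h => hne1 _ (congrArg Subtype.val h)⟩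
    have hF : Function.Bijective F := by
      refine ⟨fun i j hij => ?_, fun u => ?_⟩
      · have hij' : (τ ^ (i : ℕ)) v = (τ ^ (j : ℕ)) v :=
          congrArg (fun u : {u : V // u ≠ 1} => u.1.1) hij
        by_contra hne
        wlog hlt : (i : ℕ) < j generalizing i j with H'
        · exact H' j i hij.symm hij'.symm (Ne.symm hne) (by
            have : (i : ℕ) ≠ j := fun e => hne (Fin.ext e)
            omega)
        have h1 : (τ ^ ((j : ℕ) - i)) v = v := by
          apply (τ ^ (i : ℕ)).injective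
          rw [hij']
          show (τ ^ (i : ℕ) * τ ^ ((j : ℕ) - i)) v = _
          rw [← pow_add, Nat.add_sub_cancel' hlt.le]
        have := Nat.le_of_dvd (by omega) (orderOf_dvd_of_pow_eq_one (hone _ v hv hv1 h1))
        omega
      · obtain ⟨i, hi⟩ := htrans v hv hv1 u.1.1 u.1.2 (fun h => u.2 (Subtype.ext h))
        refine ⟨⟨i % orderOf y, Nat.mod_lt _ (orderOf_pos y)⟩, Subtype.ext (Subtype.ext ?_)⟩
        show (τ ^ (i % orderOf y)) v = u.1.1
        have h1 : y ^ (i % orderOf y) = y ^ i := pow_mod_orderOf y i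
        have h2 := congrArg Subtype.val h1
        rw [SubmonoidClass.coe_pow, SubmonoidClass.coe_pow] at h2
        rw [show (τ ^ (i % orderOf y)) = τ ^ i from h2, hi]
    rw [← hcardne, ← Nat.card_eq_of_bijective F hF, Nat.card_fin]
  have hle' : Nat.card W ≤ 2 ^ (2 * n) := by
    rw [hcard, two_mul, pow_add, ← hn]; exact Nat.mul_le_mul_right _ hle
  obtain ⟨q, hq, hq1⟩ := Q.bot_or_exists_ne_one.resolve_left hQ1
  have hyp : LinHyp (Additive W) y n :=
    { odd := hodd
      two := hexp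
      faithful := fun h hh => Subtype.ext (MulEquiv.ext fun w => hh (Additive.ofMul w))
      irred := fun U hU => by
        by_contra hc
        push Not at hc
        let X : Subgroup W :=
          { carrier := {w | Additive.ofMul w ∈ U}
            mul_mem' := fun {a b} ha hb => U.add_mem ha hb
            one_mem' := U.zero_mem
            inv_mem' := fun {a} ha => U.neg_mem ha }
        refine hirr ⟨X, fun he => hc.1 ?_, fun he => hc.2 ?_, fun φ hφ x hx => hU ⟨φ, hφ⟩ _ hx⟩
        · refine (AddSubgroup.eq_bot_iff_forall _).2 fun u hu => ?_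
          have : Additive.toMul u ∈ (⊥ : Subgroup W) := he ▸ hu
          exact Additive.toMul.injective (Subgroup.mem_bot.1 this)
        · refine eq_top_iff.2 fun u _ => ?_
          have : Additive.toMul u ∈ X := he ▸ Subgroup.mem_top _
          exact this
      two_le := hn2
      ord := hord
      fixed := ⟨Additive.ofMul q, fun h => hq1 (congrArg Additive.toMul h),
        congrArg Additive.ofMul (hfix q hq)⟩
      card_comm := hcardC
      trans := fun v hv hv0 v' hv' hv0' => by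
        obtain ⟨i, hi⟩ := htrans _ ((hrange v).1 hv) (fun h => hv0 (Additive.toMul.injective h)) _
          ((hrange v').1 hv') (fun h => hv0' (Additive.toMul.injective h))
        exact ⟨i, (hyi i _).trans (congrArg Additive.ofMul hi)⟩
      card_le := hle' }
  have h8 : Nat.card W = 8 := (oddLin hyp).2
  omega

/-- `exists_invariant` with `|W| = 8` as the only exception. -/
theorem eight_or_exists_invariant (hW : ∀ w : W, w * w = 1) (H : Subgroup (MulAut W))
    [Group.IsSolvable H] (hodd : Odd (Nat.card H)) (τ : MulAut W) (hτ : τ ∈ H) (Q V : Subgroup W)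
    (hQ1 : Q ≠ ⊥) (hfix : ∀ q ∈ Q, τ q = q) (hV : ∀ v ∈ V, τ v ∈ V)
    (htrans : ∀ v ∈ V, v ≠ 1 → ∀ v' ∈ V, v' ≠ 1 → ∃ i : ℕ, (τ ^ i) v = v')
    (hQV : IsCompl Q V) (hle : Nat.card Q ≤ Nat.card V) (hV4 : 4 ≤ Nat.card V) :
    Nat.card W = 8 ∨ ∃ X : Subgroup W, X ≠ ⊥ ∧ X ≠ ⊤ ∧ ∀ φ ∈ H, ∀ x ∈ X, φ x ∈ X := by
  refine or_iff_not_imp_left.2 fun h8 =>
    exists_invariant hW ?_ H hodd τ hτ Q V hQ1 hfix hV htrans hQV hle
  obtain ⟨N, hN⟩ : ∃ N, Nat.card W = 2 ^ N := by
    refine ⟨_, Nat.eq_prime_pow_of_unique_prime_dvd Nat.card_pos.ne' ?_⟩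
    intro d hd hdvd
    haveI : Fact d.Prime := ⟨hd⟩
    obtain ⟨w, hw⟩ := exists_prime_orderOf_dvd_card' d hdvd
    have : d ∣ 2 := hw ▸ orderOf_dvd_of_pow_eq_one (by rw [pow_two]; exact hW w)
    exact (Nat.prime_dvd_prime_iff_eq hd Nat.prime_two).1 this
  have hlt : Nat.card V < Nat.card W := by
    refine lt_of_le_of_ne (Subgroup.card_le_card_group V) fun he => hQ1 ?_
    have := (V.card_eq_iff_eq_top).1 he
    exact disjoint_top.1 (this ▸ hQV.disjoint)
  rw [hN] at h8 hlt ⊢
  rcases Nat.lt_or_ge N 4 with h | h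
  · interval_cases N <;> omega
  · exact le_trans (by norm_num) (Nat.pow_le_pow_right two_pos h)

end Cfsg.Agent.H18.Walter
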