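import Mathlib

/-!
An automorphism of prime order `p`, coprime to the order, of a finite abelian group with a
nondegenerate skew bicharacter that it preserves: `(2p-1)^2 ≤ |U|`.
-/

set_option autoImplicit false

namespace Cfsg.Agent.H18.Walter

variable {U : Type*} [AddCommGroup U] [Finite U] {L : Type*} [Field L]

/-- Powers of an endomorphism applied one more time. -/
lemma endPow_succ_apply (x : AddMonoid.End U) (i : ℕ) (u : U) :
    (x ^ (i + 1)) u = x ((x ^ i) u) := by
  rw [pow_succ']; rfl

/-- An element moved by nothing outside: `p` divides `|X| - 1` for a fixed point free element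
of prime order `p`. -/
lemma dvd_card_sub_one {Y : Type*} [Finite Y] [Zero Y] (p : ℕ) [Fact p.Prime] (σ : Y → Y)
    (hp : σ^[p] = id) (h0 : σ 0 = 0) (hfix : ∀ y, σ y = y → y = 0) :
    p ∣ Nat.card Y - 1 := by
  classical
  have := Fintype.ofFinite Y
  have hp0 : p ≠ 0 := (Fact.out : p.Prime).ne_zero
  have hσ : Function.Bijective σ := by
    obtain ⟨q, rfl⟩ := Nat.exists_eq_succ_of_ne_zero hp0
    exact (Finite.injective_iff_bijective).1 fun a b h => by
      have ha := congrFun hp a
      have hb := congrFun hp b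
      rw [Function.iterate_succ_apply] at ha hb
      simpa [ha, hb] using congrArg (σ^[q]) h
  set P : Equiv.Perm Y := Equiv.ofBijective σ hσ
  have hP : P ^ p ^ 1 = 1 := by
    rw [pow_one]; ext a
    rw [Equiv.Perm.coe_pow]
    exact congrFun hp a
  have h := Equiv.Perm.card_compl_support_modEq hP
  have h1 : P.supportᶜ = {(0 : Y)} := by
    ext a
    simp only [Finset.mem_compl, Equiv.Perm.mem_support, not_not, Finset.mem_singleton]
    exact ⟨fun h => hfix a h, fun h => h ▸ h0⟩
  rw [h1, Finset.card_singleton, ← Nat.card_eq_fintype_card] at h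
  exact (Nat.modEq_iff_dvd' Nat.card_pos).1 h

omit [Finite U] in
/-- At most `|Q|` characters of a finite abelian group with values in a field. -/
lemma card_hom_le (Q : Type*) [AddCommGroup Q] [Finite Q] :
    Nat.card (Q →+ Additive Lˣ) ≤ Nat.card Q := by
  have := Fintype.ofFinite Q
  let F : (Q →+ Additive Lˣ) → (Multiplicative Q →* L) := fun φ =>
    (Units.coeHom L).comp (AddMonoidHom.toMultiplicativeLeft φ)
  have hF : Function.Injective F := fun φ ψ h => by
    refine AddMonoidHom.ext fun q => ?_
    have := DFunLike.congr_fun h (Multiplicative.ofAdd q)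
    exact Units.ext (show ((Additive.toMul (φ q) : Lˣ) : L) = ((Additive.toMul (ψ q) : Lˣ) : L)
      from this)
  have hli := (linearIndependent_monoidHom (Multiplicative Q) L).comp F hF
  have hfin : Finite (Q →+ Additive Lˣ) := hli.finite
  have := Fintype.ofFinite (Q →+ Additive Lˣ)
  have h := hli.fintype_card_le_finrank
  rw [Module.finrank_fintype_fun_eq_card, Fintype.card_multiplicative] at h
  simpa [Nat.card_eq_fintype_card] using h

/-- The bound `(2p-1)^2 ≤ |U|`. -/
theorem bichar_bound (β : U →+ U →+ Additive Lˣ) (hskew : ∀ u v, β u v = - β v u)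
    (hnd : ∀ u, (∀ v, β u v = 0) → u = 0) (hodd : Odd (Nat.card U)) {p : ℕ} (hp : p.Prime)
    (hp2 : p ≠ 2) (hco : (Nat.card U).Coprime p) (x : AddMonoid.End U) (hxp : x ^ p = 1)
    (hx : x ≠ 1) (hinv : ∀ u v, β (x u) (x v) = β u v) :
    (2 * p - 1) ^ 2 ≤ Nat.card U := by
  classical
  haveI : Fact p.Prime := ⟨hp⟩
  have hinvp : ∀ (i : ℕ) (u v : U), β ((x ^ i) u) ((x ^ i) v) = β u v := by
    intro i
    induction i with
    | zero => intro u v; rfl
    | succ i ih => intro u v; rw [endPow_succ_apply, endPow_succ_apply, hinv]; exact ih u v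
  have hxp' : ∀ u, x ((x ^ (p - 1)) u) = u := fun u => by
    rw [← endPow_succ_apply, Nat.sub_add_cancel hp.pos, hxp]; rfl
  have hadj : ∀ u v, β (x u) v = β u ((x ^ (p - 1)) v) := fun u v => by
    conv_lhs => rw [← hxp' v]
    exact hinv _ _
  have hfix : ∀ u w, x u = u → u = x w - w → u = 0 := by
    intro u w hu hw
    have hpow : ∀ i, (x ^ i) u = u := by
      intro i
      induction i with
      | zero => rfl
      | succ i ih => rw [endPow_succ_apply, ih, hu]
    have h1 : ∀ i, (x ^ (i + 1)) w - (x ^ i) w = u := fun i => by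
      have h2 : (x ^ (i + 1)) w = (x ^ i) (x w) := by rw [pow_succ]; rfl
      rw [h2, ← map_sub, ← hw, hpow]
    have h2 : p • u = 0 := by
      have h3 : ∑ i ∈ Finset.range p, ((x ^ (i + 1)) w - (x ^ i) w) = (x ^ p) w - (x ^ 0) w :=
        Finset.sum_range_sub (fun i => (x ^ i) w) p
      rw [Finset.sum_congr rfl (fun i _ => h1 i), hxp] at h3
      simpa using h3
    have h3 : addOrderOf u ∣ p := addOrderOf_dvd_of_nsmul_eq_zero h2
    have h4 : addOrderOf u ∣ Nat.card U := addOrderOf_dvd_natCard u
    have h5 : addOrderOf u ∣ 1 := (hco.gcd_eq_one) ▸ Nat.dvd_gcd h4 h3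
    simpa using h5
  let D : U →+ U := (show U →+ U from x) - AddMonoidHom.id U
  have hD : ∀ w, D w = x w - w := fun w => rfl
  let s : Set (AddSubgroup U) := {Z | Z ≠ ⊥ ∧ Z ≤ D.range ∧ ∀ z ∈ Z, x z ∈ Z}
  have hs : D.range ∈ s := by
    refine ⟨fun h => hx ?_, le_rfl, ?_⟩
    · ext w
      have : D w ∈ (⊥ : AddSubgroup U) := h ▸ ⟨w, rfl⟩
      exact sub_eq_zero.1 ((hD w) ▸ (AddSubgroup.mem_bot.1 this))
    · rintro z ⟨w, rfl⟩
      exact ⟨x w, by simp [hD]⟩
  obtain ⟨X, ⟨hX0, hXle, hXinv⟩, hXmin⟩ :=
    WellFounded.has_min (wellFounded_lt (α := AddSubgroup U)) s ⟨_, hs⟩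
  have hmin : ∀ Z ≤ X, (∀ z ∈ Z, x z ∈ Z) → Z = ⊥ ∨ Z = X := by
    intro Z hZ hZi
    by_contra h
    push Not at h
    exact hXmin Z ⟨h.1, hZ.trans hXle, hZi⟩ (lt_of_le_of_ne hZ h.2)
  have hXfix : ∀ u ∈ X, x u = u → u = 0 := by
    intro u hu h
    obtain ⟨w, hw⟩ := hXle hu
    exact hfix u w h hw.symm
  have hXpow : ∀ (i : ℕ), ∀ u ∈ X, (x ^ i) u ∈ X := by
    intro i
    induction i with
    | zero => intro u hu; exact hu
    | succ i ih => intro u hu; rw [endPow_succ_apply]; exact hXinv _ (ih u hu)
  have hcX : p ∣ Nat.card X - 1 := by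
    let σ : X → X := fun u => ⟨x u.1, hXinv u.1 u.2⟩
    have hσ : ∀ (i : ℕ) (u : X), ((σ^[i] u : X) : U) = (x ^ i) u.1 := by
      intro i
      induction i with
      | zero => intro u; rfl
      | succ i ih =>
        intro u
        rw [Function.iterate_succ_apply', endPow_succ_apply, ← ih u]
    refine dvd_card_sub_one p σ ?_ (by apply Subtype.ext; exact map_zero x) ?_
    · funext u; apply Subtype.ext; rw [hσ, hxp]; rfl
    · intro u hu; exact Subtype.ext (hXfix u.1 u.2 (congrArg Subtype.val hu))
  have hoddX : Odd (Nat.card X) := hodd.of_dvd_nat (AddSubgroup.card_addSubgroup_dvd_card X)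
  have hX1 : 1 < Nat.card X := by
    rcases X.bot_or_nontrivial with h | h
    · exact absurd h hX0
    · exact Finite.one_lt_card
  let P : AddSubgroup U :=
    { carrier := {v | ∀ u ∈ X, β u v = 0}
      add_mem' := fun {a b} ha hb u hu => by rw [map_add, ha u hu, hb u hu, add_zero]
      zero_mem' := fun u _ => map_zero _
      neg_mem' := fun {a} ha u hu => by rw [map_neg, ha u hu, neg_zero] }
  have hPinv : ∀ v ∈ X ⊓ P, x v ∈ X ⊓ P := by
    rintro v ⟨hvX, hvP⟩
    refine ⟨hXinv v hvX, fun u hu => ?_⟩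
    rw [← hxp' u, hinv]
    exact hvP _ (hXpow _ u hu)
  rcases hmin (X ⊓ P) inf_le_left hPinv with hnd' | hiso
  · -- `X` is nondegenerate: a field with an involution inverting `x`.
    have hndX : ∀ v ∈ X, (∀ u ∈ X, β u v = 0) → v = 0 := fun v hv h => by
      have : v ∈ (⊥ : AddSubgroup U) := hnd' ▸ ⟨hv, h⟩
      simpa using this
    let xX : AddMonoid.End X :=
      ((x : U →+ U).comp X.subtype).codRestrict X (fun u => hXinv u.1 u.2)
    have hxX : ∀ u : X, ((xX u : X) : U) = x u.1 := fun u => rfl
    have hxXi : ∀ (i : ℕ) (u : X), (((xX ^ i) u : X) : U) = (x ^ i) u.1 := by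
      intro i
      induction i with
      | zero => intro u; rfl
      | succ i ih =>
        intro u
        rw [pow_succ', endPow_succ_apply, ← ih u]; rfl
    have hxXp : xX ^ p = 1 := AddMonoidHom.ext fun u =>
      Subtype.ext ((hxXi p u).trans (by rw [hxp]; rfl))
    let F := Subring.closure ({xX} : Set (AddMonoid.End X))
    have hcomm : ∀ a b : F, a * b = b * a := by
      letI : CommRing F := Subring.closureCommRingOfComm
        (s := ({xX} : Set (AddMonoid.End X))) (by rintro a rfl b rfl; rfl)
      exact mul_comm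
    haveI : Finite (AddMonoid.End X) := Finite.of_injective _ DFunLike.coe_injective
    haveI : Finite F := inferInstanceAs (Finite {a // a ∈ F})
    have hxmem : xX ∈ F := Subring.subset_closure rfl
    let xF : F := ⟨xX, hxmem⟩
    have hkill : ∀ (a : F) (u : X), (a : AddMonoid.End X) u = 0 → a = 0 ∨ u = 0 := by
      intro a u h
      by_cases hu : u = 0
      · exact Or.inr hu
      left
      let Z : AddSubgroup U := (((a : AddMonoid.End X) : X →+ X).ker).map X.subtype
      have hZle : Z ≤ X := by rintro z ⟨v, -, rfl⟩; exact v.2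
      have hZi : ∀ z ∈ Z, x z ∈ Z := by
        rintro z ⟨v, hv, rfl⟩
        refine ⟨xX v, ?_, rfl⟩
        have h2 : (a : AddMonoid.End X) (xX v) = xX ((a : AddMonoid.End X) v) :=
          DFunLike.congr_fun (congrArg Subtype.val (hcomm a xF)) v
        show (a : AddMonoid.End X) (xX v) = 0
        rw [h2, show (a : AddMonoid.End X) v = 0 from hv, map_zero]
      rcases hmin Z hZle hZi with h0 | h0
      · exfalso
        have : (u : U) ∈ (⊥ : AddSubgroup U) := h0 ▸ ⟨u, h, rfl⟩
        exact hu (Subtype.ext (by simpa using this))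
      · apply Subtype.ext
        refine AddMonoidHom.ext fun v => ?_
        have hv : (v : U) ∈ Z := h0.symm ▸ v.2
        obtain ⟨v', hv', hvv⟩ := hv
        obtain rfl : v' = v := Subtype.ext hvv
        exact hv'
    obtain ⟨u0, hu0⟩ : ∃ u : X, u ≠ 0 := by
      haveI : Nontrivial X := Finite.one_lt_card_iff_nontrivial.1 hX1
      exact exists_ne 0
    haveI : Nontrivial F := ⟨0, 1, fun h => hu0 (by
      have := DFunLike.congr_fun (congrArg Subtype.val h) u0
      exact this.symm)⟩
    haveI : NoZeroDivisors F := ⟨fun {a b} h => by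
      by_cases hb : b = 0
      · exact Or.inr hb
      · obtain ⟨v, hv⟩ : ∃ v, (b : AddMonoid.End X) v ≠ 0 := by
          by_contra hc
          push Not at hc
          exact hb (Subtype.ext (AddMonoidHom.ext hc))
        rcases hkill a _ (DFunLike.congr_fun (congrArg Subtype.val h) v) with h1 | h1
        · exact Or.inl h1
        · exact absurd h1 hv⟩
    haveI : IsDomain F := NoZeroDivisors.to_isDomain F
    letI : Field F := (Finite.isDomain_to_isField F).toField
    -- evaluation
    let ev : F →+ X :=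
      { toFun := fun a => (a : AddMonoid.End X) u0
        map_zero' := rfl
        map_add' := fun _ _ => rfl }
    have hevinj : Function.Injective ev := (injective_iff_map_eq_zero ev).2 fun a ha =>
      (hkill a u0 ha).resolve_right hu0
    have hevsurj : Function.Surjective ev := by
      have hZi : ∀ z ∈ ev.range.map X.subtype, x z ∈ ev.range.map X.subtype := by
        rintro z ⟨v, ⟨a, rfl⟩, rfl⟩
        exact ⟨xX (ev a), ⟨xF * a, rfl⟩, rfl⟩
      rcases hmin (ev.range.map X.subtype) (by rintro z ⟨v, -, rfl⟩; exact v.2) hZi with h0 | h0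
      · exfalso
        have : (u0 : U) ∈ (⊥ : AddSubgroup U) := h0 ▸ ⟨u0, ⟨1, rfl⟩, rfl⟩
        exact hu0 (Subtype.ext (by simpa using this))
      · intro v
        have hv : (v : U) ∈ ev.range.map X.subtype := h0.symm ▸ v.2
        obtain ⟨v', ⟨a, ha⟩, hvv⟩ := hv
        exact ⟨a, ha.trans (Subtype.ext hvv)⟩
    have hFcard : Nat.card F = Nat.card X := Nat.card_eq_of_bijective ev ⟨hevinj, hevsurj⟩
    -- adjoints
    let Adj : F → F → Prop := fun a b => ∀ u v : X,
      β ((a : AddMonoid.End X) u).1 v.1 = β u.1 ((b : AddMonoid.End X) v).1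
    have hAdjEx : ∀ a : F, ∃ b, Adj a b := by
      rintro ⟨a, ha⟩
      induction ha using Subring.closure_induction with
      | mem a ha =>
        obtain rfl := Set.mem_singleton_iff.1 ha
        refine ⟨xF ^ (p - 1), fun u v => ?_⟩
        rw [SubmonoidClass.coe_pow, hxXi]
        exact hadj _ _
      | zero =>
        refine ⟨0, fun u v => ?_⟩
        show β ((0 : X) : U) v.1 = β u.1 ((0 : X) : U)
        simp
      | one => exact ⟨1, fun u v => rfl⟩
      | add a b ha hb iha ihb =>
        obtain ⟨a', ha'⟩ := iha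
        obtain ⟨b', hb'⟩ := ihb
        refine ⟨a' + b', fun u v => ?_⟩
        show β (((a u : X) : U) + ((b u : X) : U)) v.1 =
          β u.1 ((((a' : AddMonoid.End X) v : X) : U) + (((b' : AddMonoid.End X) v : X) : U))
        rw [map_add, AddMonoidHom.add_apply, map_add, ha' u v, hb' u v]
      | neg a ha iha =>
        obtain ⟨a', ha'⟩ := iha
        refine ⟨-a', fun u v => ?_⟩
        show β (-((a u : X) : U)) v.1 = β u.1 (-(((a' : AddMonoid.End X) v : X) : U))
        rw [map_neg, AddMonoidHom.neg_apply, map_neg, ha' u v]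
      | mul a b ha hb iha ihb =>
        obtain ⟨a', ha'⟩ := iha
        obtain ⟨b', hb'⟩ := ihb
        refine ⟨b' * a', fun u v => ?_⟩
        exact (ha' (b u) v).trans (hb' u _)
    have hAdjUniq : ∀ {a b b' : F}, Adj a b → Adj a b' → b = b' := by
      intro a b b' h h'
      refine Subtype.ext (AddMonoidHom.ext fun v => Subtype.ext (sub_eq_zero.1 ?_))
      refine hndX _ (X.sub_mem (((b : AddMonoid.End X) v).2) (((b' : AddMonoid.End X) v).2))
        fun u hu => ?_
      rw [map_sub]; exact sub_eq_zero.2 ((h ⟨u, hu⟩ v).symm.trans (h' ⟨u, hu⟩ v))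
    choose τ hτ using hAdjEx
    let σ : F →+* F :=
      { toFun := τ
        map_one' := hAdjUniq (hτ 1) (fun u v => rfl)
        map_mul' := fun a b => hAdjUniq (hτ (a * b)) (fun u v => by
          rw [mul_comm (τ a) (τ b)]
          exact (hτ a _ v).trans (hτ b u _))
        map_zero' := hAdjUniq (hτ 0) (fun u v => by
          show β ((0 : X) : U) v.1 = β u.1 ((0 : X) : U)
          simp)
        map_add' := fun a b => hAdjUniq (hτ (a + b)) (fun u v => by
          show β ((((a : AddMonoid.End X) u : X) : U) + (((b : AddMonoid.End X) u : X) : U)) v.1 =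
            β u.1 ((((τ a : F) : AddMonoid.End X) v : X).1 + (((τ b : F) : AddMonoid.End X) v : X).1)
          rw [map_add, AddMonoidHom.add_apply, map_add, hτ a u v, hτ b u v]) }
    have hσσ : ∀ a, σ (σ a) = a := fun a => hAdjUniq (hτ (τ a)) (fun u v => by
      rw [hskew, ← hτ a v u, ← hskew])
    have hxFp : xF ^ p = 1 := Subtype.ext (by rw [SubmonoidClass.coe_pow]; exact hxXp)
    have hσx : σ xF = xF ^ (p - 1) := hAdjUniq (hτ xF) (fun u v => by
      rw [SubmonoidClass.coe_pow, hxXi]; exact hadj _ _)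
    have hxF0 : xF ≠ 0 := fun h => by rw [h, zero_pow hp.ne_zero] at hxFp; exact zero_ne_one hxFp
    have hxinv : σ xF = xF⁻¹ := by
      rw [hσx]; exact eq_inv_of_mul_eq_one_left (by rw [← pow_succ, Nat.sub_add_cancel hp.pos, hxFp])
    have hx1 : xF ≠ 1 := fun h => hu0 (Subtype.ext (hXfix u0.1 u0.2 (by
      have := DFunLike.congr_fun (congrArg Subtype.val h) u0
      exact congrArg Subtype.val this)))
    have hordx : orderOf xF = p := orderOf_eq_prime hxFp hx1
    let c0 : F := xF - σ xF
    have hc0 : c0 ≠ 0 := fun h => by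
      have h2 : xF ^ 2 = 1 := by
        rw [pow_two]; nth_rewrite 2 [sub_eq_zero.1 h]
        rw [hxinv, mul_inv_cancel₀ hxF0]
      have : p ∣ 2 := hordx ▸ orderOf_dvd_of_pow_eq_one h2
      exact hp2 ((Nat.prime_dvd_prime_iff_eq hp Nat.prime_two).1 this)
    have htwo : ∀ a : F, a + a = 0 → a = 0 := fun a ha => by
      have h2 : (2 : ℕ) • ev a = 0 := by rw [← map_nsmul, two_nsmul, ha, map_zero]
      have h3 : addOrderOf (ev a) ∣ Nat.gcd 2 (Nat.card X) :=
        Nat.dvd_gcd (addOrderOf_dvd_of_nsmul_eq_zero h2) (addOrderOf_dvd_natCard _)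
      rw [(Nat.coprime_two_left.2 hoddX).gcd_eq_one, Nat.dvd_one,
        AddMonoid.addOrderOf_eq_one_iff] at h3
      exact hevinj (h3.trans (map_zero ev).symm)
    let F0 : Subfield F := σ.eqLocusField (RingHom.id F)
    have hF0 : ∀ a, a ∈ F0 ↔ σ a = a := fun a => Iff.rfl
    let pr : F0 × F0 → F := fun ab => ab.1.1 + ab.2.1 * c0
    have hpr : Function.Injective pr := by
      rintro ⟨a, b⟩ ⟨a', b'⟩ h
      have h1 : (a.1 - a'.1) + (b.1 - b'.1) * c0 = 0 := by
        have : a.1 + b.1 * c0 = a'.1 + b'.1 * c0 := h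
        linear_combination this
      have h2 : (a.1 - a'.1) - (b.1 - b'.1) * c0 = 0 := by
        have h3 := congrArg σ h1
        simp only [map_add, map_sub, map_mul, map_zero, (hF0 _).1 a.2, (hF0 _).1 a'.2,
          (hF0 _).1 b.2, (hF0 _).1 b'.2, c0, hσσ] at h3
        linear_combination h3
      have ha : a.1 - a'.1 = 0 := htwo _ (by linear_combination h1 + h2)
      have hb : (b.1 - b'.1) * c0 = 0 := htwo _ (by linear_combination h1 - h2)
      exact Prod.ext (Subtype.ext (sub_eq_zero.1 ha))
        (Subtype.ext (sub_eq_zero.1 ((mul_eq_zero.1 hb).resolve_right hc0)))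
    have hsq : Nat.card F0 ^ 2 ≤ Nat.card X := by
      rw [← hFcard, pow_two, ← Nat.card_prod]
      exact Nat.card_le_card_of_injective pr hpr
    have hoddq : Odd (Nat.card F0) := by
      have hd : Nat.card F0.toSubring.toAddSubgroup ∣ Nat.card F :=
        AddSubgroup.card_addSubgroup_dvd_card _
      exact hoddX.of_dvd_nat (hFcard ▸ hd)
    set q := Nat.card F0
    have hq1 : 1 < q := Finite.one_lt_card
    -- `x` is a root of `X^2 - sX + 1` over `F0`.
    have hdiv : p ∣ q - 1 ∨ p ∣ q + 1 := by
      letI := Fintype.ofFinite F0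
      let φ : F →ₐ[F0] F := FiniteField.frobeniusAlgHom F0 F
      have hφ : ∀ a, φ a = a ^ q := fun a => by
        show a ^ Fintype.card F0 = a ^ q
        rw [← Nat.card_eq_fintype_card]
      have hs : xF + xF⁻¹ ∈ F0 := by
        rw [hF0, ← hxinv, map_add, hσσ, add_comm]
      have hroot : φ xF + (φ xF)⁻¹ = xF + xF⁻¹ := by
        have := φ.commutes ⟨xF + xF⁻¹, hs⟩
        rw [← map_inv₀, ← map_add]
        exact this
      have hy0 : φ xF ≠ 0 := by rw [hφ]; exact pow_ne_zero _ hxF0
      have hfac : (φ xF - xF) * (φ xF * xF - 1) = 0 := by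
        have h2 : (φ xF + (φ xF)⁻¹) * (φ xF * xF) = (xF + xF⁻¹) * (φ xF * xF) := by rw [hroot]
        field_simp at h2
        linear_combination h2
      rcases mul_eq_zero.1 hfac with h | h
      · left
        have h2 : xF ^ (q - 1) = 1 := by
          have h3 : xF ^ (q - 1) * xF = 1 * xF := by
            rw [← pow_succ, Nat.sub_add_cancel hq1.le, one_mul, ← hφ]
            exact sub_eq_zero.1 h
          exact mul_right_cancel₀ hxF0 h3
        exact hordx ▸ orderOf_dvd_of_pow_eq_one h2
      · right
        have h2 : xF ^ (q + 1) = 1 := by rw [pow_succ, ← hφ]; exact sub_eq_zero.1 h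
        exact hordx ▸ orderOf_dvd_of_pow_eq_one h2
    have hp3 : Nat.Coprime p 2 := (Nat.coprime_primes hp Nat.prime_two).2 hp2
    have hbound : 2 * p - 1 ≤ q := by
      obtain ⟨c, hc⟩ := hoddq
      rcases hdiv with h | h
      · have h2 : p ∣ c := hp3.dvd_of_dvd_mul_left (by
          have : q - 1 = 2 * c := by omega
          rwa [this] at h)
        have := Nat.le_of_dvd (by omega) h2
        omega
      · have h2 : p ∣ c + 1 := hp3.dvd_of_dvd_mul_left (by
          have : q + 1 = 2 * (c + 1) := by omega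
          rwa [this] at h)
        have := Nat.le_of_dvd (by omega) h2
        omega
    calc (2 * p - 1) ^ 2 ≤ q ^ 2 := Nat.pow_le_pow_left hbound 2
      _ ≤ Nat.card X := hsq
      _ ≤ Nat.card U := Nat.le_of_dvd Nat.card_pos (AddSubgroup.card_addSubgroup_dvd_card X)
  · -- `X` is totally isotropic.
    have hXP : X ≤ P := hiso ▸ inf_le_right
    let ψ : X →+ (U ⧸ P →+ Additive Lˣ) :=
      { toFun := fun u => QuotientAddGroup.lift P (β u.1) (fun v hv => hv u.1 u.2)
        map_zero' := AddMonoidHom.ext fun v => QuotientAddGroup.induction_on v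
          fun w => DFunLike.congr_fun (map_zero β) w
        map_add' := fun a b => AddMonoidHom.ext fun v => QuotientAddGroup.induction_on v
          fun w => DFunLike.congr_fun (map_add β a.1 b.1) w }
    have hψ : Function.Injective ψ := (injective_iff_map_eq_zero ψ).2 fun u hu =>
      Subtype.ext (hnd u.1 fun v => DFunLike.congr_fun hu (v : U ⧸ P))
    have hfinH : Finite (U ⧸ P →+ Additive Lˣ) := by
      let F : (U ⧸ P →+ Additive Lˣ) → (Multiplicative (U ⧸ P) →* L) := fun φ =>
        (Units.coeHom L).comp (AddMonoidHom.toMultiplicativeLeft φ)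
      have hF : Function.Injective F := fun φ ψ h => by
        refine AddMonoidHom.ext fun q => ?_
        exact Units.ext (show ((Additive.toMul (φ q) : Lˣ) : L) = ((Additive.toMul (ψ q) : Lˣ) : L)
          from DFunLike.congr_fun h (Multiplicative.ofAdd q))
      exact ((linearIndependent_monoidHom (Multiplicative (U ⧸ P)) L).comp F hF).finite
    have h1 : Nat.card X ≤ Nat.card (U ⧸ P) :=
      (Nat.card_le_card_of_injective ψ hψ).trans (card_hom_le _)
    have h2 : Nat.card X ≤ Nat.card P :=
      Nat.le_of_dvd Nat.card_pos (AddSubgroup.card_dvd_of_le hXP)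
    have h3 : 2 * p ≤ Nat.card X - 1 := by
      obtain ⟨c, hc⟩ := hoddX
      have : p ∣ c := ((Nat.coprime_primes hp Nat.prime_two).2 hp2).dvd_of_dvd_mul_left (by
        have : Nat.card X - 1 = 2 * c := by omega
        rwa [this] at hcX)
      have := Nat.le_of_dvd (by omega) this
      omega
    calc (2 * p - 1) ^ 2 ≤ Nat.card X ^ 2 := Nat.pow_le_pow_left (by omega) 2
      _ = Nat.card X * Nat.card X := pow_two _
      _ ≤ Nat.card (U ⧸ P) * Nat.card P := Nat.mul_le_mul h1 h2
      _ = Nat.card U := (AddSubgroup.card_eq_card_quotient_mul_card_addSubgroup P).symm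

end Cfsg.Agent.H18.Walter
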