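import Mathlib

/-!
Odd groups acting irreducibly on an elementary abelian 2-group `W`, with an element `y` of order
`2 ^ n - 1` fixing a nonzero vector and transitive on the nonzero vectors of `[W, y]`:
the subring spanned by an abelian normal subgroup is a field centralised by `y`, or `|W| = 8`.
-/

set_option autoImplicit false

namespace Cfsg.Agent.H18.Walter

variable {W : Type*} [AddCommGroup W] {H : Type*} [Group H] [DistribMulAction H W]

/-- The endomorphism of `W` given by `h`. -/
def actEnd (W : Type*) [AddCommGroup W] [DistribMulAction H W] : H →* AddMonoid.End W :=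
  DistribMulAction.toAddMonoidEnd H W

/-- The subgroup `[W, y]`. -/
def commRange (W : Type*) [AddCommGroup W] [DistribMulAction H W] (y : H) : AddSubgroup W :=
  AddMonoidHom.range
    ((show W →+ W from actEnd W y) - AddMonoidHom.id W)

lemma sub_mem_commRange (y : H) (w : W) : y • w - w ∈ commRange W y := ⟨w, rfl⟩

lemma mem_commRange_iff {y : H} {v : W} : v ∈ commRange W y ↔ ∃ w, y • w - w = v := Iff.rfl

/-- The hypotheses of the linear lemma. -/
structure LinHyp (W : Type*) [AddCommGroup W] [DistribMulAction H W] (y : H) (n : ℕ) : Prop where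
  odd : Odd (Nat.card H)
  two : ∀ w : W, w + w = 0
  faithful : ∀ h : H, (∀ w : W, h • w = w) → h = 1
  irred : ∀ U : AddSubgroup W, (∀ h : H, ∀ u ∈ U, h • u ∈ U) → U = ⊥ ∨ U = ⊤
  two_le : 2 ≤ n
  ord : orderOf y = 2 ^ n - 1
  fixed : ∃ k : W, k ≠ 0 ∧ y • k = k
  card_comm : Nat.card (commRange W y) = 2 ^ n
  trans : ∀ v ∈ commRange W y, v ≠ 0 → ∀ v' ∈ commRange W y, v' ≠ 0 → ∃ i : ℕ, y ^ i • v = v'
  card_le : Nat.card W ≤ 2 ^ (2 * n)

lemma two_mul_lt_pow {n : ℕ} (hn : 3 ≤ n) : 2 * n < 2 ^ n - 1 := by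
  induction n, hn using Nat.le_induction with
  | base => norm_num
  | succ k hk ih => rw [pow_succ]; omega

lemma smul_mem_commRange {y : H} {v : W} (hv : v ∈ commRange W y) (i : ℕ) :
    y ^ i • v ∈ commRange W y := by
  obtain ⟨w, rfl⟩ := mem_commRange_iff.1 hv
  refine mem_commRange_iff.2 ⟨y ^ i • w, ?_⟩
  rw [smul_sub, ← mul_smul, ← mul_smul, (Commute.pow_self y i).eq]

namespace LinHyp

variable [Finite W] {y : H} {n : ℕ}

omit [Finite W] in
lemma two_le_pow (h : LinHyp W y n) : 4 ≤ 2 ^ n :=
  le_trans (by norm_num) (Nat.pow_le_pow_right two_pos h.two_le)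

omit [Finite W] in
lemma ne_one (h : LinHyp W y n) : y ≠ 1 := fun he => by
  have := h.ord
  rw [he, orderOf_one] at this
  have := h.two_le_pow
  omega

/-- `⟨y⟩` acts freely on `[W,y]#`. -/
lemma free (h : LinHyp W y n) {v : W} (hv : v ∈ commRange W y) (hv0 : v ≠ 0) {i : ℕ}
    (hi : y ^ i • v = v) : y ^ i = 1 := by
  classical
  set N := 2 ^ n - 1
  have hN : 0 < N := by have := h.two_le_pow; omega
  let f : Fin N → {u : commRange W y // u ≠ 0} := fun j =>
    ⟨⟨y ^ (j : ℕ) • v, smul_mem_commRange hv _⟩, fun he => hv0 (by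
      have := congrArg Subtype.val he
      simpa [smul_eq_zero_iff_eq] using this)⟩
  have hmod : ∀ j : ℕ, y ^ j = y ^ (j % N) := fun j => by
    rw [show N = orderOf y from h.ord.symm, pow_mod_orderOf]
  have hsurj : Function.Surjective f := by
    rintro ⟨⟨u, hu⟩, hu0⟩
    obtain ⟨j, hj⟩ := h.trans v hv hv0 u hu (fun he => hu0 (Subtype.ext he))
    refine ⟨⟨j % N, Nat.mod_lt _ hN⟩, Subtype.ext (Subtype.ext ?_)⟩
    show y ^ (j % N) • v = u
    rw [← hmod]; exact hj
  have hcard : Nat.card {u : commRange W y // u ≠ 0} = N := by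
    have := Fintype.ofFinite (commRange W y)
    rw [Nat.card_eq_fintype_card, Fintype.card_subtype_compl, Fintype.card_subtype_eq,
      ← Nat.card_eq_fintype_card, h.card_comm]
  have hinj : Function.Injective f := by
    have hb : Function.Bijective f := by
      rw [Nat.bijective_iff_surjective_and_card]
      exact ⟨hsurj, by rw [Nat.card_fin, hcard]⟩
    exact hb.1
  have := @hinj ⟨i % N, Nat.mod_lt _ hN⟩ ⟨0, hN⟩ (Subtype.ext (Subtype.ext (by
    show y ^ (i % N) • v = y ^ 0 • v
    rw [← hmod, hi, pow_zero, one_smul])))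
  rw [hmod i, show i % N = 0 from congrArg Fin.val this, pow_zero]

/-- A vector fixed by a nontrivial power of `y` is fixed by `y`. -/
lemma fixK (h : LinHyp W y n) {w : W} {i : ℕ} (hi : y ^ i • w = w) (hne : y ^ i ≠ 1) :
    y • w = w := by
  by_contra hc
  refine hne (h.free (sub_mem_commRange y w) (sub_ne_zero.2 hc) ?_)
  rw [smul_sub, ← mul_smul, (Commute.pow_self y i).eq, mul_smul, hi]

/-- `[W,y] ∩ C_W(y) = 0`. -/
lemma eq_zero_of_fix (h : LinHyp W y n) {v : W} (hv : v ∈ commRange W y) (hf : y • v = v) :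
    v = 0 := by
  by_contra hv0
  exact h.ne_one (by simpa using h.free hv hv0 (i := 1) (by simpa using hf))

lemma exists_card_eq (h : LinHyp W y n) : ∃ N, Nat.card W = 2 ^ N := by
  refine ⟨_, Nat.eq_prime_pow_of_unique_prime_dvd Nat.card_pos.ne' ?_⟩
  intro d hd hdvd
  haveI : Fact d.Prime := ⟨hd⟩
  obtain ⟨w, hw⟩ := exists_prime_addOrderOf_dvd_card' d hdvd
  have : d ∣ 2 := hw ▸ addOrderOf_dvd_of_nsmul_eq_zero (by rw [two_nsmul]; exact h.two w)
  exact (Nat.prime_dvd_prime_iff_eq hd Nat.prime_two).1 this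

/-- `2 ^ (n+1) ≤ |W|`. -/
lemma succ_le_card (h : LinHyp W y n) : 2 ^ (n + 1) ≤ Nat.card W := by
  obtain ⟨k, hk0, hk⟩ := h.fixed
  let f : commRange W y × Fin 2 → W := fun p => p.1.1 + (p.2 : ℕ) • k
  have hf : Function.Injective f := by
    rintro ⟨⟨a, ha⟩, i⟩ ⟨⟨b, hb⟩, j⟩ he
    replace he : a + (i : ℕ) • k = b + (j : ℕ) • k := he
    have hab : a = b := by
      refine sub_eq_zero.1 (h.eq_zero_of_fix ((commRange W y).sub_mem ha hb) ?_)
      have h2 : a - b = (j : ℕ) • k - (i : ℕ) • k := by
        rw [sub_eq_sub_iff_add_eq_add, he, add_comm]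
      have hkn : ∀ m : ℕ, y • (m • k) = m • k := fun m => by rw [smul_comm, hk]
      rw [h2, smul_sub, hkn, hkn]
    subst hab
    have hij := add_left_cancel he
    fin_cases i <;> fin_cases j <;> first | rfl | (simp at hij; simp_all)
  calc 2 ^ (n + 1) = Nat.card (commRange W y × Fin 2) := by
        rw [Nat.card_prod, h.card_comm, Nat.card_fin, pow_succ]
    _ ≤ Nat.card W := Nat.card_le_card_of_injective f hf

end LinHyp

lemma end_apply (h : H) (w : W) : actEnd W h w = h • w := rfl

variable (W) in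
/-- Conjugation of endomorphisms by `h`. -/
def cj (h : H) (b : AddMonoid.End W) : AddMonoid.End W := actEnd W h * b * actEnd W h⁻¹

lemma cj_apply (h : H) (b : AddMonoid.End W) (w : W) : cj W h b w = h • b (h⁻¹ • w) := rfl

lemma cj_smul (h : H) (b : AddMonoid.End W) (w : W) : cj W h b (h • w) = h • b w := by
  rw [cj_apply, inv_smul_smul]

lemma cj_mul (h : H) (b c : AddMonoid.End W) : cj W h (b * c) = cj W h b * cj W h c := by
  refine AddMonoidHom.ext fun w => ?_
  show h • b (c (h⁻¹ • w)) = h • b (h⁻¹ • (h • c (h⁻¹ • w)))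
  rw [inv_smul_smul]

lemma cj_add (h : H) (b c : AddMonoid.End W) : cj W h (b + c) = cj W h b + cj W h c := by
  simp [cj, mul_add, add_mul]

lemma cj_cj (g h : H) (b : AddMonoid.End W) : cj W g (cj W h b) = cj W (g * h) b := by
  simp [cj, mul_assoc, mul_inv_rev, map_mul]

lemma cj_one (b : AddMonoid.End W) : cj W (1 : H) b = b := by simp [cj]

lemma cj_one' (h : H) : cj W h 1 = 1 := by simp [cj, ← map_mul]

lemma cj_zero (h : H) : cj W h 0 = 0 := by simp [cj]

variable (W) in
/-- The subring spanned by the image of `A`. -/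
def spanB (A : Subgroup H) : Subring (AddMonoid.End W) :=
  Subring.closure (actEnd W '' (A : Set H))

lemma actEnd_mem {A : Subgroup H} {a : H} (ha : a ∈ A) : actEnd W a ∈ spanB W A :=
  Subring.subset_closure ⟨a, ha, rfl⟩

lemma spanB_commute {A : Subgroup H} {T : AddMonoid.End W}
    (hT : ∀ a ∈ A, Commute T (actEnd W a)) {b : AddMonoid.End W} (hb : b ∈ spanB W A) :
    Commute T b := by
  induction hb using Subring.closure_induction with
  | mem b hb => obtain ⟨a, ha, rfl⟩ := hb; exact hT a ha
  | zero => exact Commute.zero_right T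
  | one => exact Commute.one_right T
  | add a b _ _ ha hb => exact ha.add_right hb
  | neg a _ ha => exact ha.neg_right
  | mul a b _ _ ha hb => exact ha.mul_right hb

lemma spanB_comm {A : Subgroup H} (hA : ∀ a ∈ A, ∀ a' ∈ A, a * a' = a' * a)
    {b c : AddMonoid.End W} (hb : b ∈ spanB W A) (hc : c ∈ spanB W A) : Commute b c := by
  refine spanB_commute (fun a ha => (spanB_commute (T := actEnd W a) (fun a' ha' => ?_) hb).symm) hc
  show actEnd W a * actEnd W a' = actEnd W a' * actEnd W a
  rw [← map_mul, hA a ha a' ha', map_mul]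

lemma cj_mem {A : Subgroup H} [hA : A.Normal] (h : H) {b : AddMonoid.End W} (hb : b ∈ spanB W A) :
    cj W h b ∈ spanB W A := by
  induction hb using Subring.closure_induction with
  | mem b hb =>
    obtain ⟨a, ha, rfl⟩ := hb
    have : cj W h (actEnd W a) = actEnd W (h * a * h⁻¹) := by simp [cj, map_mul]
    rw [this]; exact actEnd_mem (hA.conj_mem a ha h)
  | zero => rw [cj_zero]; exact zero_mem _
  | one => rw [cj_one']; exact one_mem _
  | add a b _ _ ha hb => rw [cj_add]; exact add_mem ha hb
  | neg a _ ha =>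
    have : cj W h (-a) = - cj W h a := by simp [cj]
    rw [this]; exact neg_mem ha
  | mul a b _ _ ha hb => rw [cj_mul]; exact mul_mem ha hb

/-- The fixed points of an idempotent. -/
def fixSub (e : AddMonoid.End W) : AddSubgroup W where
  carrier := {w | e w = w}
  add_mem' := fun {a b} ha hb => by simp only [Set.mem_setOf_eq] at *; rw [map_add, ha, hb]
  zero_mem' := map_zero e
  neg_mem' := fun {a} ha => by simp only [Set.mem_setOf_eq] at *; rw [map_neg, ha]

lemma mem_fixSub {e : AddMonoid.End W} {w : W} : w ∈ fixSub e ↔ e w = w := Iff.rfl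

lemma apply_mem_fixSub {e : AddMonoid.End W} (he : e * e = e) (w : W) : e w ∈ fixSub e :=
  DFunLike.congr_fun he w

variable [Finite W] [Finite H] {y : H} {n : ℕ}

/-- Squaring is onto, hence injective, on the spanned subring: it is reduced. -/
lemma sq_eq_zero {A : Subgroup H} (h : LinHyp W y n) (hA : ∀ a ∈ A, ∀ a' ∈ A, a * a' = a' * a)
    {b : AddMonoid.End W} (hb : b ∈ spanB W A) (hbb : b * b = 0) : b = 0 := by
  haveI : Finite (AddMonoid.End W) := Finite.of_injective _ DFunLike.coe_injective
  let sq : spanB W A → spanB W A := fun c => ⟨c.1 * c.1, mul_mem c.2 c.2⟩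
  have hEnd : ∀ T : AddMonoid.End W, T + T = 0 := fun T =>
    AddMonoidHom.ext fun w => h.two (T w)
  have hsurj : Function.Surjective sq := by
    rintro ⟨c, hc⟩
    suffices ∃ d ∈ spanB W A, d * d = c by
      obtain ⟨d, hd, hdd⟩ := this; exact ⟨⟨d, hd⟩, Subtype.ext hdd⟩
    induction hc using Subring.closure_induction with
    | mem c hc =>
      obtain ⟨a, ha, rfl⟩ := hc
      obtain ⟨m, hm⟩ := h.odd.of_dvd_nat (Subgroup.card_subgroup_dvd_card A)
      refine ⟨actEnd W (a ^ (m + 1)), actEnd_mem (A.pow_mem ha _), ?_⟩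
      rw [← map_mul, ← pow_add]
      congr 1
      have h1 : a ^ Nat.card A = 1 := by
        have := congrArg Subtype.val (pow_card_eq_one' (x := (⟨a, ha⟩ : A)))
        rwa [Subgroup.coe_pow, Subgroup.coe_one] at this
      rw [show m + 1 + (m + 1) = Nat.card A + 1 by omega, pow_succ, h1, one_mul]
    | zero => exact ⟨0, zero_mem _, mul_zero _⟩
    | one => exact ⟨1, one_mem _, one_mul _⟩
    | add a b _ _ ha hb =>
      obtain ⟨d, hd, rfl⟩ := ha
      obtain ⟨d', hd', rfl⟩ := hb
      refine ⟨d + d', add_mem hd hd', ?_⟩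
      rw [add_mul, mul_add, mul_add, (spanB_comm hA hd' hd).eq,
        show d * d + d * d' + (d * d' + d' * d') = d * d + d' * d' + (d * d' + d * d') by abel,
        hEnd, add_zero]
    | neg a _ ha =>
      obtain ⟨d, hd, rfl⟩ := ha
      exact ⟨d, hd, eq_neg_of_add_eq_zero_left (hEnd _)⟩
    | mul a b _ _ ha hb =>
      obtain ⟨d, hd, rfl⟩ := ha
      obtain ⟨d', hd', rfl⟩ := hb
      exact ⟨d * d', mul_mem hd hd', (spanB_comm hA hd' hd).mul_mul_mul_comm d d'⟩
  have hinj := Finite.injective_iff_surjective.2 hsurj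
  exact congrArg Subtype.val
    (@hinj ⟨b, hb⟩ 0 (Subtype.ext (hbb.trans (mul_zero _).symm)))

/-- Inverses, or a nontrivial idempotent. -/
lemma inverse_or_idem {A : Subgroup H} (h : LinHyp W y n)
    (hA : ∀ a ∈ A, ∀ a' ∈ A, a * a' = a' * a) {b : AddMonoid.End W} (hb : b ∈ spanB W A)
    (hb0 : b ≠ 0) :
    (∃ c ∈ spanB W A, b * c = 1) ∨ ∃ e ∈ spanB W A, e * e = e ∧ e ≠ 0 ∧ e ≠ 1 := by
  haveI : Finite (AddMonoid.End W) := Finite.of_injective _ DFunLike.coe_injective
  obtain ⟨i, j, hij, hpow⟩ := Finite.exists_ne_map_eq_of_infinite (fun i : ℕ => b ^ i)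
  wlog hlt : i < j generalizing i j with H'
  · exact H' j i (Ne.symm hij) hpow.symm (by omega)
  set d := j - i with hdd
  have hper : ∀ m, i ≤ m → ∀ k, b ^ (m + k * d) = b ^ m := by
    intro m hm k
    induction k with
    | zero => simp
    | succ k ih =>
      have h1 : b ^ (i + d) = b ^ i := by rw [Nat.add_sub_cancel' hlt.le]; exact hpow.symm
      calc b ^ (m + (k + 1) * d) = b ^ (i + d) * b ^ (m + k * d - i) := by
            rw [← pow_add]; congr 1; rw [add_mul, one_mul]; omega
        _ = b ^ i * b ^ (m + k * d - i) := by rw [h1]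
        _ = b ^ (m + k * d) := by rw [← pow_add]; congr 1; omega
        _ = b ^ m := ih
  let t := (i + 1) * d
  have hd1 : 1 ≤ d := by omega
  have hti : i + 1 ≤ t := Nat.le_mul_of_pos_right _ hd1
  have hidem : b ^ t * b ^ t = b ^ t := by rw [← pow_add]; exact hper t (by omega) (i + 1)
  have hne : b ^ t ≠ 0 := by
    intro h0
    have hex : ∃ k, b ^ k = 0 := ⟨t, h0⟩
    classical
    have hk := Nat.find_spec hex
    rcases Nat.lt_or_ge 1 (Nat.find hex) with hlt' | hle
    · set m := (Nat.find hex + 1) / 2 with hm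
      have hmz : b ^ m = 0 := sq_eq_zero h hA (pow_mem hb _) (by
        rw [← pow_add, show m + m = Nat.find hex + (m + m - Nat.find hex) by omega, pow_add, hk,
          zero_mul])
      exact Nat.find_min hex (show m < Nat.find hex by omega) hmz
    · rcases Nat.le_one_iff_eq_zero_or_eq_one.1 hle with h1 | h1
      · rw [h1, pow_zero] at hk
        exact hb0 (by rw [← mul_one b, hk, mul_zero])
      · rw [h1, pow_one] at hk; exact hb0 hk
  by_cases h1 : b ^ t = 1
  · refine Or.inl ⟨b ^ (t - 1), pow_mem hb _, ?_⟩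
    rw [← pow_succ', Nat.sub_add_cancel (by omega), h1]
  · exact Or.inr ⟨b ^ t, pow_mem hb _, hidem, hne, h1⟩

/-- With a nontrivial idempotent, `n = 2` and `|W| = 8`. -/
lemma of_idem {A : Subgroup H} [A.Normal] (h : LinHyp W y n)
    (hA : ∀ a ∈ A, ∀ a' ∈ A, a * a' = a' * a) {e0 : AddMonoid.End W} (he0 : e0 ∈ spanB W A)
    (he00 : e0 * e0 = e0) (he0n : e0 ≠ 0) (he01 : e0 ≠ 1) : n = 2 ∧ Nat.card W = 8 := by
  classical
  haveI : Finite (AddMonoid.End W) := Finite.of_injective _ DFunLike.coe_injective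
  let s : Set (AddMonoid.End W) := {e | e ∈ spanB W A ∧ e * e = e ∧ e ≠ 0}
  obtain ⟨e, ⟨heB, hee, hen⟩, hmin⟩ := Set.exists_min_image s (fun e => Nat.card (fixSub e))
    s.toFinite ⟨e0, he0, he00, he0n⟩
  have hatom : ∀ f ∈ spanB W A, f * f = f → e * f ≠ 0 → e * f = e := by
    intro f hf hff hne
    have hc := spanB_comm hA heB hf
    have hef : e * f * (e * f) = e * f := by
      rw [hc.symm.mul_mul_mul_comm, hee, hff]
    have hle : fixSub (e * f) ≤ fixSub e := fun w hw => by
      rw [mem_fixSub] at hw ⊢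
      conv_lhs => rw [← hw]
      exact (DFunLike.congr_fun hee (f w)).trans hw
    have heq : fixSub (e * f) = fixSub e := AddSubgroup.eq_of_le_of_card_ge hle
      (hmin (e * f) ⟨mul_mem heB hf, hef, hne⟩)
    refine AddMonoidHom.ext fun w => ?_
    have hw : e w ∈ fixSub (e * f) := heq.symm ▸ apply_mem_fixSub hee w
    calc (e * f) w = (e * (e * f)) w := by rw [← mul_assoc, hee]
      _ = ((e * f) * e) w := by rw [(spanB_comm hA heB (mul_mem heB hf)).eq]
      _ = e w := hw
  -- the orbit of `e`
  let O : Finset (AddMonoid.End W) := (Set.toFinite (Set.range (fun g : H => cj W g e))).toFinset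
  have hOmem : ∀ f, f ∈ O ↔ ∃ g : H, cj W g e = f := fun f => by simp [O]
  have hOB : ∀ f ∈ O, f ∈ spanB W A ∧ f * f = f ∧ f ≠ 0 := by
    intro f hf
    obtain ⟨g, rfl⟩ := (hOmem f).1 hf
    refine ⟨cj_mem g heB, by rw [← cj_mul, hee], fun h0 => hen ?_⟩
    have := congrArg (cj W g⁻¹) h0
    rwa [cj_cj, inv_mul_cancel, cj_one, cj_zero] at this
  have hOconj : ∀ (g : H), ∀ f ∈ O, cj W g f ∈ O := fun g f hf => by
    obtain ⟨g', rfl⟩ := (hOmem f).1 hf
    exact (hOmem _).2 ⟨g * g', (cj_cj g g' e).symm⟩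
  have heO : e ∈ O := (hOmem e).2 ⟨1, cj_one e⟩
  have half : ∀ f ∈ O, ∀ f' ∈ O, f * f' ≠ 0 → f * f' = f := by
    intro f hf f' hf' hne
    obtain ⟨g, rfl⟩ := (hOmem f).1 hf
    have hf1 : cj W g⁻¹ f' ∈ O := hOconj _ _ hf'
    have hf2 : cj W g (cj W g⁻¹ f') = f' := by rw [cj_cj, mul_inv_cancel, cj_one]
    have := hatom _ (hOB _ hf1).1 (hOB _ hf1).2.1 (fun h0 => hne (by
      rw [← hf2, ← cj_mul, h0, cj_zero]))
    rw [← hf2, ← cj_mul, this]
  have horth : ∀ f ∈ O, ∀ f' ∈ O, f ≠ f' → f * f' = 0 := by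
    intro f hf f' hf' hne
    by_contra h0
    have hc := spanB_comm hA (hOB f hf).1 (hOB f' hf').1
    exact hne ((half f hf f' hf' h0).symm.trans (hc.eq.trans (half f' hf' f hf (hc.eq ▸ h0))))
  have hO2 : ∀ f ∈ O, ∀ f' ∈ O, ∀ u, f u = u → f' u ≠ 0 → f' = f := by
    intro f hf f' hf' u hu h0
    by_contra hne
    apply h0
    rw [← hu]
    exact DFunLike.congr_fun (horth f' hf' f hf hne) u
  -- the sum is one
  have hsum : ∀ w, ∑ f ∈ O, f w = w := by
    let S : W → W := fun w => ∑ f ∈ O, f w
    let U : AddSubgroup W :=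
      { carrier := {w | S w = w}
        add_mem' := fun {a b} ha hb => by
          show ∑ f ∈ O, f (a + b) = a + b
          simp only [map_add, Finset.sum_add_distrib]
          exact congrArg₂ (· + ·) ha hb
        zero_mem' := by show ∑ f ∈ O, f 0 = 0; simp
        neg_mem' := fun {a} ha => by
          show ∑ f ∈ O, f (-a) = -a
          simp only [map_neg, Finset.sum_neg_distrib]
          exact congrArg Neg.neg ha }
    have hU : ∀ g : H, ∀ u ∈ U, g • u ∈ U := by
      intro g u hu
      show ∑ f ∈ O, f (g • u) = g • u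
      conv_rhs => rw [← show ∑ f ∈ O, f u = u from hu, Finset.smul_sum]
      refine Finset.sum_nbij' (cj W g⁻¹) (cj W g) (hOconj _) (hOconj _) ?_ ?_ ?_
      · intro f _; rw [cj_cj, mul_inv_cancel, cj_one]
      · intro f _; rw [cj_cj, inv_mul_cancel, cj_one]
      · intro f _
        rw [cj_apply, inv_inv, smul_inv_smul]
    rcases h.irred U hU with h0 | h0
    · exfalso
      apply hen
      refine AddMonoidHom.ext fun w => ?_
      have hew : e w ∈ U := by
        show ∑ f ∈ O, f (e w) = e w
        have hz : ∀ f ∈ O, f ≠ e → f (e w) = 0 := fun f hf hfe =>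
          DFunLike.congr_fun (horth f hf e heO hfe) w
        rw [Finset.sum_eq_single_of_mem e heO hz]
        exact DFunLike.congr_fun hee w
      rw [h0, AddSubgroup.mem_bot] at hew
      exact hew
    · exact fun w => show w ∈ U by rw [h0]; trivial
  -- the decomposition
  set b := O.card with hb
  have hfixmap : ∀ (g : H) (f : AddMonoid.End W) (u : W), u ∈ fixSub f →
      g • u ∈ fixSub (cj W g f) := fun g f u hu => by
    rw [mem_fixSub, cj_smul]; exact congrArg _ hu
  have hsame : ∀ f ∈ O, Nat.card (fixSub f) = Nat.card (fixSub e) := by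
    intro f hf
    obtain ⟨g, rfl⟩ := (hOmem f).1 hf
    symm
    refine Nat.card_eq_of_bijective (fun u : fixSub e => ⟨g • u.1, hfixmap g e u.1 u.2⟩)
      ⟨fun u v huv => Subtype.ext (MulAction.injective g (congrArg Subtype.val huv)), fun u => ?_⟩
    have hu := hfixmap g⁻¹ _ u.1 u.2
    rw [cj_cj, inv_mul_cancel, cj_one] at hu
    exact ⟨⟨g⁻¹ • u.1, hu⟩, Subtype.ext (smul_inv_smul g u.1)⟩
  have hcardW : Nat.card W = Nat.card (fixSub e) ^ b := by
    let F : W → ((f : O) → fixSub f.1) := fun w f =>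
      ⟨f.1 w, apply_mem_fixSub (hOB f.1 f.2).2.1 w⟩
    have hF : Function.Bijective F := by
      refine ⟨fun w w' hw => ?_, fun u => ⟨∑ f : O, (u f).1, ?_⟩⟩
      · rw [← hsum w, ← hsum w']
        exact Finset.sum_congr rfl fun f hf => congrArg Subtype.val (congrFun hw ⟨f, hf⟩)
      · funext f
        apply Subtype.ext
        show f.1 (∑ g : O, (u g).1) = (u f).1
        rw [map_sum, Finset.sum_eq_single f]
        · exact (u f).2
        · intro g _ hgf
          rw [← show g.1 (u g).1 = (u g).1 from (u g).2]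
          exact DFunLike.congr_fun (horth f.1 f.2 g.1 g.2 fun he => hgf (Subtype.ext he.symm)) _
        · simp
    rw [Nat.card_eq_of_bijective F hF, Nat.card_pi,
      Finset.prod_congr rfl (fun f _ => hsame f.1 f.2), Finset.prod_const, Finset.card_univ,
      Fintype.card_coe]
  have hbodd : Odd b := by
    let K0 : Subgroup H :=
      { carrier := {g | cj W g e = e}
        one_mem' := cj_one e
        mul_mem' := fun {g g'} hg hg' => by
          simp only [Set.mem_setOf_eq] at *; rw [← cj_cj, hg', hg]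
        inv_mem' := fun {g} hg => by
          simp only [Set.mem_setOf_eq] at *
          conv_lhs => rw [← hg]
          rw [cj_cj, inv_mul_cancel, cj_one] }
    let φ : H ⧸ K0 → O := fun q => Quotient.liftOn' q
      (fun g => (⟨cj W g e, (hOmem _).2 ⟨g, rfl⟩⟩ : O)) (fun g g' hgg => by
        have hk : cj W (g⁻¹ * g') e = e := QuotientGroup.leftRel_apply.1 hgg
        apply Subtype.ext
        show cj W g e = cj W g' e
        conv_lhs => rw [← hk]
        rw [cj_cj, mul_inv_cancel_left])
    have hφ : Function.Bijective φ := by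
      refine ⟨fun q q' => ?_, fun f => ?_⟩
      · refine Quotient.inductionOn₂' q q' fun g g' hgg => ?_
        refine Quotient.sound' (QuotientGroup.leftRel_apply.2 ?_)
        show cj W (g⁻¹ * g') e = e
        have hgg' : cj W g e = cj W g' e := congrArg Subtype.val hgg
        rw [← cj_cj, ← hgg', cj_cj, inv_mul_cancel, cj_one]
      · obtain ⟨g, hg⟩ := (hOmem f.1).1 f.2
        exact ⟨(g : H ⧸ K0), Subtype.ext hg⟩
    have h1 : b = K0.index := by
      have h2 := Nat.card_eq_of_bijective φ hφ
      rw [Nat.card_eq_fintype_card (α := O), Fintype.card_coe] at h2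
      rw [Subgroup.index, h2]
    rw [h1]
    exact h.odd.of_dvd_nat (Subgroup.index_dvd_card _)
  have hb3 : 3 ≤ b := by
    rcases hbodd with ⟨c, hc⟩
    rcases Nat.eq_zero_or_pos c with rfl | hc0
    · exfalso
      have hO1 : O = {e} := by
        obtain ⟨a, ha⟩ := Finset.card_eq_one.1 (show O.card = 1 by omega)
        rw [ha, Finset.mem_singleton] at heO
        rw [ha, heO]
      have hfe : fixSub e = ⊤ := by
        refine eq_top_iff.2 fun w _ => ?_
        have := hsum w
        rwa [hO1, Finset.sum_singleton] at this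
      have h1 := hmin e0 ⟨he0, he00, he0n⟩
      simp only [hfe] at h1
      have h2 : fixSub e0 = ⊤ := AddSubgroup.eq_top_of_card_eq _
        (le_antisymm (AddSubgroup.card_le_card_addGroup _) (by simpa using h1))
      exact he01 (AddMonoidHom.ext fun w => show w ∈ fixSub e0 by rw [h2]; trivial)
    · omega
  have hU2 : 2 ≤ Nat.card (fixSub e) := by
    obtain ⟨w, hw⟩ : ∃ w, e w ≠ 0 := by
      by_contra hc
      push Not at hc
      exact hen (AddMonoidHom.ext hc)
    exact Finite.one_lt_card_iff_nontrivial.2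
      ⟨⟨⟨e w, apply_mem_fixSub hee w⟩, 0, fun he => hw (congrArg Subtype.val he)⟩⟩
  -- conclusion for `n = 2`
  rcases Nat.lt_or_ge n 3 with hn | hn
  · have hn2 : n = 2 := by have := h.two_le; omega
    refine ⟨hn2, ?_⟩
    have hle : Nat.card (fixSub e) ^ b ≤ 16 := by
      rw [← hcardW]; exact h.card_le.trans (by simp [hn2])
    have hb' : b = 3 := by
      by_contra hne
      have : 5 ≤ b := by rcases hbodd with ⟨c, hc⟩; omega
      have : 2 ^ 5 ≤ Nat.card (fixSub e) ^ b :=
        (Nat.pow_le_pow_left hU2 5).trans (Nat.pow_le_pow_right (by omega) this)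
      norm_num at this; omega
    have hU : Nat.card (fixSub e) = 2 := by
      by_contra hne
      have : 3 ^ 3 ≤ Nat.card (fixSub e) ^ b := by rw [hb']; exact Nat.pow_le_pow_left (by omega) 3
      norm_num at this; omega
    rw [hcardW, hU, hb']; norm_num
  exfalso
  have hN := two_mul_lt_pow hn
  have hiter : ∀ (i : ℕ) (f : AddMonoid.End W), (cj W y)^[i] f = cj W (y ^ i) f := by
    intro i
    induction i with
    | zero => intro f; rw [pow_zero, cj_one]; rfl
    | succ i ih =>
      intro f
      rw [Function.iterate_succ_apply', ih, cj_cj, ← pow_succ']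
  by_cases hmove : ∃ o ∈ O, cj W y o ≠ o
  · obtain ⟨o, ho, hne⟩ := hmove
    obtain ⟨w0, hw0⟩ : ∃ w, o w ≠ 0 := by
      by_contra hc
      push Not at hc
      exact (hOB o ho).2.2 (AddMonoidHom.ext hc)
    set w := o w0 with hw
    have hwo : o w = w := DFunLike.congr_fun (hOB o ho).2.1 w0
    -- two blocks in the support of every nonzero element of `[W,y]`
    have hyw : cj W y o (y • w) = y • w := by rw [cj_smul, hwo]
    have hyo : cj W y o ∈ O := hOconj _ _ ho
    set v0 := y • w - w with hv0
    have hv0a : o v0 ≠ 0 := by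
      rw [hv0, map_sub, hwo]
      have : o (y • w) = 0 := by
        rw [← hyw]; exact DFunLike.congr_fun (horth o ho _ hyo (Ne.symm hne)) _
      rw [this, zero_sub, neg_ne_zero]; exact hw0
    have hv0b : cj W y o v0 ≠ 0 := by
      rw [hv0, map_sub, hyw]
      have : cj W y o w = 0 := by
        rw [← hwo]; exact DFunLike.congr_fun (horth _ hyo o ho hne) _
      rw [this, sub_zero]
      exact fun h0 => hw0 (by simpa [smul_eq_zero_iff_eq] using h0)
    have hv00 : v0 ≠ 0 := fun h0 => hv0a (by rw [h0, map_zero])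
    have hnotsingle : ∀ v ∈ commRange W y, ∀ f ∈ O, f v = v → v = 0 := by
      intro v hv f hf hfv
      by_contra hv0'
      obtain ⟨i, hi⟩ := h.trans v hv hv0' v0 (sub_mem_commRange y w) hv00
      have hg : cj W (y ^ i) f v0 = v0 := by rw [← hi, cj_smul, hfv]
      have h1 := hO2 _ (hOconj _ _ hf) o ho v0 hg hv0a
      have h2 := hO2 _ (hOconj _ _ hf) _ hyo v0 hg hv0b
      exact hne (h2.trans h1.symm)
    -- a period of `o`
    have hex : ∃ c, 0 < c ∧ (cj W y)^[c] o = o := by
      refine ⟨orderOf y, orderOf_pos y, ?_⟩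
      rw [hiter, pow_orderOf_eq_one, cj_one]
    set c := Nat.find hex with hcdef
    obtain ⟨hc0, hc⟩ : 0 < c ∧ (cj W y)^[c] o = o := Nat.find_spec hex
    have hcb : c ≤ b := by
      let g : Fin c → O := fun i => ⟨cj W (y ^ (i : ℕ)) o, hOconj _ _ ho⟩
      have hg : Function.Injective g := by
        intro i j hij
        have hij' : cj W (y ^ (i : ℕ)) o = cj W (y ^ (j : ℕ)) o := congrArg Subtype.val hij
        by_contra hne'
        wlog hlt : (i : ℕ) < j generalizing i j with H'
        · exact H' hij.symm hij'.symm (Ne.symm hne') (by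
            have : (i : ℕ) ≠ j := fun e => hne' (Fin.ext e)
            omega)
        have := congrArg (cj W (y ^ (i : ℕ))⁻¹) hij'
        rw [cj_cj, cj_cj, inv_mul_cancel, cj_one,
          show (y ^ (i : ℕ))⁻¹ * y ^ (j : ℕ) = y ^ ((j : ℕ) - i) by
            rw [inv_mul_eq_iff_eq_mul, ← pow_add]; congr 1; omega, ← hiter] at this
        exact Nat.find_min hex (show (j : ℕ) - i < c by omega) ⟨by omega, this.symm⟩
      have := Nat.card_le_card_of_injective g hg
      rwa [Nat.card_fin, Nat.card_eq_fintype_card, Fintype.card_coe] at this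
    rw [hiter] at hc
    have ht : y ^ c • w = w := by
      refine sub_eq_zero.1 (hnotsingle _ ?_ o ho ?_)
      · obtain ⟨k, hk⟩ : ∃ k, k = c := ⟨c, rfl⟩
        rw [← hk]
        clear hk
        induction k with
        | zero => simp
        | succ k ih =>
          have : y ^ (k + 1) • w - w = y ^ k • (y • w - w) + (y ^ k • w - w) := by
            rw [smul_sub, ← mul_smul, ← pow_succ]; abel
          rw [this]
          exact add_mem (smul_mem_commRange (sub_mem_commRange y w) k) ih
      · rw [map_sub, hwo]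
        have : o (y ^ c • w) = y ^ c • w := by
          conv_lhs => rw [← hc]
          rw [cj_smul, hwo]
        rw [this]
    have hywne : y • w ≠ w := sub_ne_zero.1 hv00
    have hyc : y ^ c = 1 := by
      by_contra hc1
      exact hywne (h.fixK ht hc1)
    have hdvd : 2 ^ n - 1 ≤ c := by
      rw [← h.ord]; exact Nat.le_of_dvd hc0 (orderOf_dvd_of_pow_eq_one hyc)
    have hb2n : b ≤ 2 * n := by
      have : 2 ^ b ≤ 2 ^ (2 * n) :=
        (Nat.pow_le_pow_left hU2 b).trans (hcardW ▸ h.card_le)
      exact (Nat.pow_le_pow_iff_right (by norm_num)).1 this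
    omega
  · push Not at hmove
    obtain ⟨k, hk0, hk⟩ := h.fixed
    obtain ⟨v, hv, hv0⟩ : ∃ v ∈ commRange W y, v ≠ 0 := by
      by_contra hc
      push Not at hc
      have := h.card_comm
      rw [(AddSubgroup.eq_bot_iff_forall _).2 hc, AddSubgroup.card_bot] at this
      have := h.two_le_pow
      omega
    obtain ⟨f, hf, hfv⟩ : ∃ f ∈ O, f v ≠ 0 := by
      by_contra hc
      push Not at hc
      exact hv0 (by rw [← hsum v, Finset.sum_eq_zero hc])
    have hcomm : ∀ x, f (y • x) = y • f x := fun x => by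
      conv_lhs => rw [← hmove f hf]
      rw [cj_smul]
    have hcommi : ∀ (i : ℕ) x, f (y ^ i • x) = y ^ i • f x := by
      intro i
      induction i with
      | zero => simp
      | succ i ih => intro x; rw [pow_succ', mul_smul, mul_smul, hcomm, ih]
    have hfvV : f v ∈ commRange W y := by
      obtain ⟨x, rfl⟩ := mem_commRange_iff.1 hv
      exact mem_commRange_iff.2 ⟨f x, by rw [map_sub, hcomm]⟩
    have hVle : commRange W y ≤ fixSub f := by
      intro u hu
      by_cases hu0 : u = 0
      · rw [hu0]; exact zero_mem _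
      obtain ⟨i, rfl⟩ := h.trans _ hfvV hfv u hu hu0
      rw [mem_fixSub, hcommi]
      exact congrArg _ (DFunLike.congr_fun (hOB f hf).2.1 v)
    have h2 : 2 ^ n ≤ Nat.card (fixSub e) := by
      rw [← h.card_comm, ← hsame f hf]
      exact Nat.le_of_dvd Nat.card_pos (AddSubgroup.card_dvd_of_le hVle)
    have h3 : (2 ^ n) ^ 3 ≤ Nat.card W := by
      rw [hcardW]
      exact (Nat.pow_le_pow_left h2 3).trans (Nat.pow_le_pow_right (by omega) hb3)
    rw [← pow_mul] at h3
    have := (Nat.pow_le_pow_iff_right (by norm_num : 1 < 2)).1 (h3.trans h.card_le)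
    omega

end Cfsg.Agent.H18.Walter
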