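import Cfsg.Agent.H18.Walter.Bichar
import Cfsg.Agent.H18.Walter.OddLinBlocks
import Cfsg.Agent.Arith.LargePrimDiv

/-!
The linear lemma of the Walter endgame: a soluble group of odd order acting faithfully and
irreducibly on an elementary abelian 2-group `W`, `|W| ≤ 2 ^ (2n)`, containing an element of
order `2 ^ n - 1` with nonzero fixed points and transitive on `[W,y]#` of size `2 ^ n - 1`:
then `n = 2` and `|W| = 8`.
-/

set_option autoImplicit false

open scoped commutatorElement

namespace Cfsg.Agent.H18.Walter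

variable {W : Type*} [AddCommGroup W] [Finite W] {H : Type*} [Group H] [Finite H]
  [DistribMulAction H W] {y : H} {n : ℕ}

/-- The spanned subring is a field centralised by `y`, or `n = 2`, `|W| = 8`. -/
theorem field_or {A : Subgroup H} [A.Normal] (h : LinHyp W y n)
    (hA : ∀ a ∈ A, ∀ a' ∈ A, a * a' = a' * a) :
    (n = 2 ∧ Nat.card W = 8) ∨
      (IsField (spanB W A) ∧ ∀ b ∈ spanB W A, Commute (actEnd W y) b) := by
  classical
  by_cases hid : ∃ e ∈ spanB W A, e * e = e ∧ e ≠ 0 ∧ e ≠ 1
  · obtain ⟨e, he, hee, he0, he1⟩ := hid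
    exact Or.inl (of_idem h hA he hee he0 he1)
  obtain ⟨k, hk0, hk⟩ := h.fixed
  haveI : Nontrivial W := ⟨⟨k, 0, hk0⟩⟩
  haveI : Finite (AddMonoid.End W) := Finite.of_injective _ DFunLike.coe_injective
  have hne : (0 : spanB W A) ≠ 1 := fun he => hk0
    (DFunLike.congr_fun (congrArg Subtype.val he) k).symm
  have hF : IsField (spanB W A) := by
    refine ⟨⟨0, 1, hne⟩, fun a b => Subtype.ext (spanB_comm hA a.2 b.2).eq, fun {a} ha => ?_⟩
    rcases inverse_or_idem h hA a.2 (fun h0 => ha (Subtype.ext h0)) with ⟨c, hc, hac⟩ | h1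
    · exact ⟨⟨c, hc⟩, Subtype.ext hac⟩
    · exact absurd h1 hid
  letI : Field (spanB W A) := hF.toField
  haveI : CharP (spanB W A) 2 := (CharP.charP_iff_prime_eq_zero Nat.prime_two).2 (by
    rw [Nat.cast_ofNat, ← one_add_one_eq_two]
    exact Subtype.ext (AddMonoidHom.ext fun w => h.two w))
  letI : Algebra (ZMod 2) (spanB W A) := ZMod.algebra _ 2
  let σr : spanB W A ≃+* spanB W A :=
    { toFun := fun b => ⟨cj W y b.1, cj_mem y b.2⟩
      invFun := fun b => ⟨cj W y⁻¹ b.1, cj_mem _ b.2⟩
      left_inv := fun b => Subtype.ext (by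
        show cj W y⁻¹ (cj W y b.1) = b.1
        rw [cj_cj, inv_mul_cancel, cj_one])
      right_inv := fun b => Subtype.ext (by
        show cj W y (cj W y⁻¹ b.1) = b.1
        rw [cj_cj, mul_inv_cancel, cj_one])
      map_mul' := fun a b => Subtype.ext (cj_mul y a.1 b.1)
      map_add' := fun a b => Subtype.ext (cj_add y a.1 b.1) }
  let σ : spanB W A ≃ₐ[ZMod 2] spanB W A := AlgEquiv.ofRingEquiv (f := σr) (fun a =>
    RingHom.congr_fun (RingHom.ext_zmod
      (σr.toRingHom.comp (algebraMap (ZMod 2) (spanB W A))) (algebraMap (ZMod 2) _)) a)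
  have hσpow : ∀ (i : ℕ) (b : spanB W A), ((σ ^ i) b).1 = cj W (y ^ i) b.1 := by
    intro i
    induction i with
    | zero => intro b; rw [pow_zero, pow_zero, cj_one]; rfl
    | succ i ih =>
      intro b
      rw [pow_succ', pow_succ', ← cj_cj, ← ih b]
      rfl
  have hcdvd : orderOf σ ∣ Module.finrank (ZMod 2) (spanB W A) := by
    rw [← IsGalois.card_aut_eq_finrank (ZMod 2) (spanB W A)]
    exact orderOf_dvd_natCard σ
  set c := orderOf σ with hc
  set f := Module.finrank (ZMod 2) (spanB W A) with hf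
  have hfpos : 0 < f := Module.finrank_pos
  have hycomm : ∀ b ∈ spanB W A, ∀ w, y ^ c • b w = b (y ^ c • w) := by
    intro b hb w
    have h1 : cj W (y ^ c) b = b := by
      have := hσpow c ⟨b, hb⟩
      rw [pow_orderOf_eq_one] at this
      exact this.symm
    conv_rhs => rw [← h1]
    rw [cj_smul]
  by_cases hyc : y ^ c = 1
  · left
    have hN : 2 ^ n - 1 ∣ c := h.ord ▸ orderOf_dvd_of_pow_eq_one hyc
    obtain ⟨N, hN2⟩ := h.exists_card_eq
    have hcardB : Nat.card (spanB W A) = 2 ^ f := by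
      rw [Module.natCard_eq_pow_finrank (K := ZMod 2), Nat.card_zmod]
    have hfd : f * Module.finrank (spanB W A) W = N := by
      have h1 := Module.natCard_eq_pow_finrank (K := spanB W A) (V := W)
      rw [hN2, hcardB, ← pow_mul] at h1
      exact (Nat.pow_right_injective le_rfl h1).symm
    have hN2n : N ≤ 2 * n :=
      (Nat.pow_le_pow_iff_right (by norm_num)).1 (hN2 ▸ h.card_le)
    have hdpos : 0 < Module.finrank (spanB W A) W := Module.finrank_pos
    have hle : 2 ^ n - 1 ≤ 2 * n := by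
      have h1 : 2 ^ n - 1 ≤ f := Nat.le_of_dvd hfpos (hN.trans hcdvd)
      have h2 : f ≤ N := hfd ▸ Nat.le_mul_of_pos_right f hdpos
      omega
    have hn2 : n = 2 := by
      rcases Nat.lt_or_ge n 3 with h3 | h3
      · have := h.two_le; omega
      · have := two_mul_lt_pow h3; omega
    refine ⟨hn2, ?_⟩
    subst hn2
    have hf3 : f = 3 := by
      have h3 : 3 ∣ f := by simpa using hN.trans hcdvd
      have h2 : f ≤ N := hfd ▸ Nat.le_mul_of_pos_right f hdpos
      obtain ⟨r, hr⟩ := h3
      omega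
    have hd1 : Module.finrank (spanB W A) W = 1 := by
      rw [hf3] at hfd; omega
    rw [hN2, ← hfd, hf3, hd1]
    norm_num
  · refine Or.inr ⟨hF, fun b hb => AddMonoidHom.ext fun w => ?_⟩
    have hbk : y • b k = b k := by
      refine h.fixK (i := c) ?_ hyc
      rw [hycomm b hb]
      congr 1
      have : ∀ i : ℕ, y ^ i • k = k := by
        intro i
        induction i with
        | zero => simp
        | succ i ih => rw [pow_succ, mul_smul, hk, ih]
      exact this c
    have heq : cj W y b = b := by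
      by_contra hne'
      have hz : ((⟨cj W y b, cj_mem y hb⟩ : spanB W A) - ⟨b, hb⟩) ≠ 0 := fun h0 =>
        hne' (congrArg Subtype.val (sub_eq_zero.1 h0))
      obtain ⟨u, hu⟩ := hF.mul_inv_cancel hz
      have h1 : cj W y b k = b k := by
        conv_lhs => rw [← hk]
        rw [cj_smul]; exact hbk
      rw [mul_comm] at hu
      have h3 := DFunLike.congr_fun (congrArg Subtype.val hu) k
      have h4 : u.1 ((cj W y b - b) k) = k := h3
      rw [show (cj W y b - b) k = cj W y b k - b k from rfl, h1, sub_self, map_zero] at h4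
      exact hk0 h4.symm
    show y • b w = b (y • w)
    conv_rhs => rw [← heq]
    rw [cj_smul]

/-- A normal subgroup outside `A` with derived subgroup inside `A`. -/
lemma exists_metab [Group.IsSolvable H] {C A : Subgroup H} [C.Normal] (hCA : ¬ C ≤ A) :
    ∃ D : Subgroup H, D.Normal ∧ D ≤ C ∧ ¬ D ≤ A ∧ ∀ a ∈ D, ∀ b ∈ D, ⁅a, b⁆ ∈ A := by
  let D : ℕ → Subgroup H := fun i => (fun K : Subgroup H => ⁅K, K⁆)^[i] C
  have hsucc : ∀ i, D (i + 1) = ⁅D i, D i⁆ := fun i => Function.iterate_succ_apply' _ i C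
  have hnorm : ∀ i, (D i).Normal := by
    intro i
    induction i with
    | zero => exact inferInstanceAs C.Normal
    | succ i ih => rw [hsucc]; haveI := ih; infer_instance
  have hle : ∀ i, D i ≤ C := by
    intro i
    induction i with
    | zero => exact le_rfl
    | succ i ih => rw [hsucc]; haveI := hnorm i; exact Subgroup.commutator_le_left _ _ |>.trans ih
  have hder : ∀ i, D i ≤ derivedSeries H i := by
    intro i
    induction i with
    | zero => exact le_top
    | succ i ih => rw [hsucc, derivedSeries_succ]; exact Subgroup.commutator_mono ih ih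
  obtain ⟨N, hN⟩ := Group.IsSolvable.solvable (G := H)
  classical
  have hex : ∃ i, D i ≤ A := ⟨N, (hder N).trans (hN ▸ bot_le)⟩
  have h0 : Nat.find hex ≠ 0 := fun h => hCA (by simpa [h, D] using Nat.find_spec hex)
  obtain ⟨i, hi⟩ := Nat.exists_eq_succ_of_ne_zero h0
  refine ⟨D i, hnorm i, hle i, Nat.find_min hex (by omega), fun a ha b hb => ?_⟩
  exact Nat.find_spec hex (hi ▸ hsucc i ▸ Subgroup.commutator_mem_commutator ha hb)

/-- Commuting endomorphisms of an `X`-cyclic vector. -/
lemma comm_on_cyclic {E V : Type*} [Field E] [AddCommGroup V] [Module E V] (X T T' : Module.End E V)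
    (hT : Commute X T) (hT' : Commute X T') (v : V)
    (h1 : T v ∈ Submodule.span E (Set.range fun i : ℕ => (X ^ i) v))
    (h2 : T' v ∈ Submodule.span E (Set.range fun i : ℕ => (X ^ i) v)) :
    T (T' v) = T' (T v) := by
  have hmem : ∀ w ∈ Submodule.span E (Set.range fun i : ℕ => (X ^ i) v),
      ∃ Q : Module.End E V, Q v = w ∧ ∀ P, Commute X P → Commute Q P := by
    intro w hw
    induction hw using Submodule.span_induction with
    | mem w hw => obtain ⟨i, rfl⟩ := hw; exact ⟨X ^ i, rfl, fun P hP => hP.pow_left i⟩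
    | zero => exact ⟨0, rfl, fun P _ => Commute.zero_left P⟩
    | add a b _ _ ha hb =>
      obtain ⟨Q, rfl, hQ⟩ := ha
      obtain ⟨Q', rfl, hQ'⟩ := hb
      exact ⟨Q + Q', rfl, fun P hP => (hQ P hP).add_left (hQ' P hP)⟩
    | smul c a _ ha =>
      obtain ⟨Q, rfl, hQ⟩ := ha
      exact ⟨c • Q, rfl, fun P hP => (hQ P hP).smul_left c⟩
  obtain ⟨Q, hQv, hQ⟩ := hmem _ h1
  obtain ⟨Q', hQv', hQ'⟩ := hmem _ h2
  have hXQ : Commute X Q := (hQ X (Commute.refl X)).symm
  have e1 : T (T' v) = Q' (Q v) := by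
    rw [← hQv', hQv]; exact (DFunLike.congr_fun (hQ' T hT).eq v).symm
  have e2 : T' (T v) = Q (Q' v) := by
    rw [← hQv, hQv']; exact (DFunLike.congr_fun (hQ T' hT').eq v).symm
  rw [e1, e2]
  exact DFunLike.congr_fun (hQ' Q hXQ).eq v

/-- The prime used when `y` has more than one field eigenvalue. -/
lemma exists_prime {f g n : ℕ} (hn : n = f * g) (hf : 2 ≤ f) (hg : 2 ≤ g)
    (h6 : ¬ (n = 6 ∧ f = 3)) :
    ∃ p : ℕ, p.Prime ∧ p ∣ 2 ^ n - 1 ∧ (∀ e, p ∣ 2 ^ (f * e) - 1 → g ∣ e) ∧ 2 * g + 1 ≤ p := by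
  have h4 : 4 ≤ n := hn ▸ Nat.mul_le_mul hf hg
  rcases eq_or_ne n 6 with rfl | h6'
  · have hf2 : f = 2 := by
      have hle : f ≤ 3 := by
        by_contra hc
        push Not at hc
        have := Nat.mul_le_mul hc hg
        omega
      have : f ≠ 3 := fun h => h6 ⟨rfl, h⟩
      omega
    subst hf2
    obtain rfl : g = 3 := by omega
    refine ⟨7, by norm_num, by norm_num, fun e he => ?_, le_rfl⟩
    rw [pow_mul] at he
    by_contra h3
    have h1 : (2 ^ 2) ^ e % 7 = (2 ^ 2) ^ (e % 3) % 7 := by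
      conv_lhs => rw [← Nat.div_add_mod e 3, pow_add, pow_mul]
      rw [Nat.mul_mod, Nat.pow_mod]
      norm_num
    have hpos : 1 ≤ (2 ^ 2) ^ e := Nat.one_le_pow _ _ (by norm_num)
    rw [show (2 : ℕ) ^ 2 = 4 by norm_num] at he h1 hpos
    rcases (show e % 3 = 1 ∨ e % 3 = 2 by omega) with h | h <;> rw [h] at h1 <;> norm_num at h1 <;>
      omega
  · obtain ⟨p, hp⟩ := Cfsg.Agent.Arith.exists_isPPD (a := 2) (n := n) (by norm_num) (by omega)
      (fun h => h6' h.2) (fun h => by omega)
    refine ⟨p, hp.1, hp.2.1, fun e he => ?_, ?_⟩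
    · have := (hp.dvd_iff (by norm_num) (by omega) (k := f * e)).1 he
      rw [hn] at this
      exact (Nat.mul_dvd_mul_iff_left (by omega)).1 this
    · have := hp.lt (by norm_num) (by omega)
      have : 2 * g ≤ n := hn ▸ Nat.mul_le_mul_right g hf
      omega

set_option maxHeartbeats 2000000 in
/-- **The linear lemma.** -/
theorem oddLin [Group.IsSolvable H] (h : LinHyp W y n) : n = 2 ∧ Nat.card W = 8 := by
  classical
  by_contra hC
  obtain ⟨k, hk0, hk⟩ := h.fixed
  haveI : Nontrivial W := ⟨⟨k, 0, hk0⟩⟩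
  haveI : Finite (AddMonoid.End W) := Finite.of_injective _ DFunLike.coe_injective
  -- a maximal abelian normal subgroup
  obtain ⟨A, ⟨hAn, hA⟩, hAmax⟩ := WellFounded.has_min (wellFounded_gt (α := Subgroup H))
    {A : Subgroup H | A.Normal ∧ ∀ a ∈ A, ∀ a' ∈ A, a * a' = a' * a}
    ⟨⊥, inferInstance, fun a ha a' ha' => by
      rw [Subgroup.mem_bot.1 ha, Subgroup.mem_bot.1 ha']⟩
  haveI := hAn
  have hmax : ∀ B : Subgroup H, B.Normal → A ≤ B →
      (∀ a ∈ B, ∀ b ∈ B, a * b = b * a) → B = A := fun B hB hAB hBc => by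
    by_contra hne
    exact hAmax B ⟨hB, hBc⟩ (lt_of_le_of_ne hAB (Ne.symm hne))
  have hAne : A ≠ ⊥ := by
    intro hbot
    have hT : ¬ (⊤ : Subgroup H) ≤ A := fun hle => h.ne_one
      (Subgroup.mem_bot.1 (hbot ▸ hle (Subgroup.mem_top y)))
    obtain ⟨D, hDn, -, hDA, hDc⟩ := exists_metab hT
    refine hDA (le_of_eq (hmax D hDn (hbot ▸ bot_le) fun a ha b hb => ?_))
    exact commutatorElement_eq_one_iff_mul_comm.1 (Subgroup.mem_bot.1 (hbot ▸ hDc a ha b hb))
  obtain ⟨hF, hyB⟩ := (field_or h hA).resolve_left hC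
  letI : Field (spanB W A) := hF.toField
  have hinj : Function.Injective (actEnd W : H → AddMonoid.End W) := by
    refine (injective_iff_map_eq_one (actEnd W : H →* AddMonoid.End W)).2 fun g hg => ?_
    exact h.faithful g fun w => DFunLike.congr_fun hg w
  have hyA : ∀ a ∈ A, a * y = y * a := fun a ha => hinj (by
    rw [map_mul, map_mul]; exact (hyB _ (actEnd_mem ha)).symm.eq)
  let C : Subgroup H := Subgroup.centralizer (A : Set H)
  have hCn : C.Normal := by
    refine ⟨fun c hc g => Subgroup.mem_centralizer_iff.2 fun a ha => ?_⟩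
    have h1 := Subgroup.mem_centralizer_iff.1 hc (g⁻¹ * a * g) (by
      simpa using hAn.conj_mem a ha g⁻¹)
    calc a * (g * c * g⁻¹) = g * ((g⁻¹ * a * g) * c) * g⁻¹ := by group
      _ = g * (c * (g⁻¹ * a * g)) * g⁻¹ := by rw [h1]
      _ = g * c * g⁻¹ * a := by group
  have hyC : y ∈ C := Subgroup.mem_centralizer_iff.2 hyA
  have hynA : y ∉ A := by
    intro hy
    let e : spanB W A := ⟨actEnd W y, actEnd_mem hy⟩ - 1
    have hek : e.1 k = 0 := by
      show y • k - k = 0
      rw [hk, sub_self]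
    have he0 : e = 0 := by
      by_contra hne
      have h1 := DFunLike.congr_fun (congrArg Subtype.val (inv_mul_cancel₀ hne)) k
      have h2 : (e⁻¹).1 (e.1 k) = k := h1
      rw [hek, map_zero] at h2
      exact hk0 h2.symm
    exact h.ne_one (hinj ((congrArg Subtype.val (sub_eq_zero.1 he0)).trans (map_one _).symm))
  haveI := hCn
  obtain ⟨D, hDn, hDC, hDA, hDc⟩ := exists_metab (fun hle : C ≤ A => hynA (hle hyC))
  let Bg : Subgroup H := A ⊔ D
  have hBn : Bg.Normal := inferInstance
  have hAC : A ≤ C := fun a ha => Subgroup.mem_centralizer_iff.2 fun a' ha' => hA a' ha' a ha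
  have hBC : Bg ≤ C := sup_le hAC hDC
  have hcen : ∀ a ∈ A, ∀ c ∈ C, a * c = c * a := fun a ha c hc =>
    Subgroup.mem_centralizer_iff.1 hc a ha
  have hBA : ∀ a ∈ Bg, ∀ b ∈ Bg, ⁅a, b⁆ ∈ A := by
    intro a ha b hb
    obtain ⟨a1, ha1, d1, hd1, rfl⟩ := Subgroup.mem_sup_of_normal_left.1 ha
    obtain ⟨a2, ha2, d2, hd2, rfl⟩ := Subgroup.mem_sup_of_normal_left.1 hb
    have e1 : a1 * d1 * (a2 * d2) = a1 * a2 * (d1 * d2) := by
      rw [mul_assoc, ← mul_assoc d1, ← hcen a2 ha2 d1 (hDC hd1), mul_assoc, mul_assoc]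
    have e2 : a2 * d2 * (a1 * d1) = a1 * a2 * (d2 * d1) := by
      rw [mul_assoc, ← mul_assoc d2, ← hcen a1 ha1 d2 (hDC hd2), mul_assoc, ← mul_assoc a2,
        hA a2 ha2 a1 ha1, mul_assoc]
    have key : ⁅a1 * d1, a2 * d2⁆ = (a1 * a2) * ⁅d1, d2⁆ * (a1 * a2)⁻¹ := by
      calc ⁅a1 * d1, a2 * d2⁆ = (a1 * d1 * (a2 * d2)) * (a2 * d2 * (a1 * d1))⁻¹ := by
            rw [commutatorElement_def]; group
        _ = (a1 * a2 * (d1 * d2)) * (a1 * a2 * (d2 * d1))⁻¹ := by rw [e1, e2]
        _ = _ := by rw [commutatorElement_def]; group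
    rw [key]
    exact hAn.conj_mem _ (hDc d1 hd1 d2 hd2) _
  have hBnc : ¬ ∀ a ∈ Bg, ∀ b ∈ Bg, a * b = b * a := fun hBc =>
    hDA (le_sup_right.trans (hmax Bg hBn le_sup_left hBc).le)
  have hZ : ∀ b ∈ Bg, (∀ b' ∈ Bg, b * b' = b' * b) → b ∈ A := by
    intro b hb hbc
    have hle : A ≤ Bg ⊓ Subgroup.centralizer (Bg : Set H) := le_inf le_sup_left fun a ha =>
      Subgroup.mem_centralizer_iff.2 fun b' hb' => (hcen a ha b' (hBC hb')).symm
    have := hmax (Bg ⊓ Subgroup.centralizer (Bg : Set H)) ⟨fun c hc g => by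
        refine ⟨hBn.conj_mem c hc.1 g, Subgroup.mem_centralizer_iff.2 fun b' hb' => ?_⟩
        have h1 := Subgroup.mem_centralizer_iff.1 hc.2 (g⁻¹ * b' * g) (by
          simpa using hBn.conj_mem b' hb' g⁻¹)
        calc b' * (g * c * g⁻¹) = g * ((g⁻¹ * b' * g) * c) * g⁻¹ := by group
          _ = g * (c * (g⁻¹ * b' * g)) * g⁻¹ := by rw [h1]
          _ = g * c * g⁻¹ * b' := by group⟩
      hle (fun a ha b' hb' => (Subgroup.mem_centralizer_iff.1 hb'.2 a ha.1))
    rw [← this]
    exact ⟨hb, Subgroup.mem_centralizer_iff.2 fun b' hb' => (hbc b' hb').symm⟩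
  -- linear maps over the field
  have hlinC : ∀ g ∈ C, ∀ (e : spanB W A) (w : W), g • e.1 w = e.1 (g • w) := by
    intro g hg e w
    have := spanB_commute (T := actEnd W g) (fun a ha => by
      show actEnd W g * actEnd W a = actEnd W a * actEnd W g
      rw [← map_mul, ← map_mul, hcen a ha g hg]) e.2
    exact DFunLike.congr_fun this.eq w
  let L : C → Module.End (spanB W A) W := fun g =>
    { toFun := fun w => g.1 • w
      map_add' := smul_add g.1
      map_smul' := fun e w => hlinC g.1 g.2 e w }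
  -- sizes
  haveI : CharP (spanB W A) 2 := (CharP.charP_iff_prime_eq_zero Nat.prime_two).2 (by
    rw [Nat.cast_ofNat, ← one_add_one_eq_two]
    exact Subtype.ext (AddMonoidHom.ext fun w => h.two w))
  letI : Algebra (ZMod 2) (spanB W A) := ZMod.algebra _ 2
  set f := Module.finrank (ZMod 2) (spanB W A) with hf
  have hcardB : Nat.card (spanB W A) = 2 ^ f := by
    rw [Module.natCard_eq_pow_finrank (K := ZMod 2), Nat.card_zmod]
  set d := Module.finrank (spanB W A) W with hd
  have hWcard : Nat.card W = 2 ^ (f * d) := by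
    rw [Module.natCard_eq_pow_finrank (K := spanB W A), hcardB, ← pow_mul]
  have hfd : f * d ≤ 2 * n :=
    (Nat.pow_le_pow_iff_right (by norm_num)).1 (hWcard ▸ h.card_le)
  let Vs : Submodule (spanB W A) W :=
    { carrier := commRange W y
      add_mem' := fun {a b} ha hb => (commRange W y).add_mem ha hb
      zero_mem' := (commRange W y).zero_mem
      smul_mem' := fun e v hv => by
        obtain ⟨w, rfl⟩ := mem_commRange_iff.1 hv
        refine mem_commRange_iff.2 ⟨e.1 w, ?_⟩
        rw [hlinC y hyC e w]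
        exact (map_sub e.1 (y • w) w).symm }
  set g := Module.finrank (spanB W A) Vs with hg
  have hng : n = f * g := by
    have h1 := Module.natCard_eq_pow_finrank (K := spanB W A) (V := Vs)
    rw [hcardB, ← pow_mul] at h1
    have h2 : Nat.card Vs = 2 ^ n := h.card_comm
    exact Nat.pow_right_injective le_rfl (h2.symm.trans h1)
  let ι : A →* (spanB W A)ˣ := MonoidHom.toHomUnits
    { toFun := fun a => ⟨actEnd W a.1, actEnd_mem a.2⟩
      map_one' := Subtype.ext (map_one _)
      map_mul' := fun a b => Subtype.ext (map_mul _ _ _) }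
  have hιinj : Function.Injective ι := fun a b hab =>
    Subtype.ext (hinj (congrArg (fun u : (spanB W A)ˣ => (u : spanB W A).1) hab))
  have hf0 : 0 < f := Module.finrank_pos
  have hAcard : Nat.card A ∣ 2 ^ f - 1 := by
    have h1 := Subgroup.card_dvd_of_injective ι hιinj
    rwa [Nat.card_units, hcardB] at h1
  have hf2 : 2 ≤ f := by
    by_contra hc
    have : f = 1 := by omega
    rw [this] at hAcard
    exact hAne (Subgroup.eq_bot_of_card_eq A (Nat.dvd_one.1 hAcard))
  have hgpos : 1 ≤ g := by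
    by_contra hc
    have h0 : g = 0 := by omega
    rw [h0, mul_zero] at hng
    have := h.two_le
    omega
  have hd2g : d ≤ 2 * g := by
    have : f * d ≤ f * (2 * g) := by rw [hng] at hfd; linarith
    exact Nat.le_of_mul_le_mul_left this (by omega)
  -- the bicharacter
  let cm : Bg → Bg → A := fun a b => ⟨⁅a.1, b.1⁆, hBA a.1 a.2 b.1 b.2⟩
  have hcm_mul_right : ∀ a b c, cm a (b * c) = cm a b * cm a c := fun a b c => Subtype.ext (by
    show ⁅a.1, b.1 * c.1⁆ = ⁅a.1, b.1⁆ * ⁅a.1, c.1⁆
    have h1 := hcen _ (hBA a.1 a.2 c.1 c.2) b.1 (hBC b.2)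
    calc ⁅a.1, b.1 * c.1⁆ = ⁅a.1, b.1⁆ * (b.1 * ⁅a.1, c.1⁆ * b.1⁻¹) := by
          simp only [commutatorElement_def]; group
      _ = _ := by rw [← h1, mul_inv_cancel_right])
  have hcm_inv : ∀ a b, cm a b = (cm b a)⁻¹ := fun a b => Subtype.ext (by
    show ⁅a.1, b.1⁆ = ⁅b.1, a.1⁆⁻¹
    rw [commutatorElement_inv])
  have hcm_mul_left : ∀ a b c, cm (a * b) c = cm a c * cm b c := fun a b c => by
    rw [hcm_inv, hcm_mul_right, hcm_inv a c, hcm_inv b c]
    exact Subtype.ext (by
      show (⁅c.1, a.1⁆ * ⁅c.1, b.1⁆)⁻¹ = ⁅c.1, a.1⁆⁻¹ * ⁅c.1, b.1⁆⁻¹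
      rw [mul_inv_rev]
      exact hA _ (A.inv_mem (hBA _ c.2 _ b.2)) _ (A.inv_mem (hBA _ c.2 _ a.2)))
  let κ : Bg →* (Bg →* (spanB W A)ˣ) :=
    MonoidHom.mk' (fun a => MonoidHom.mk' (fun b => ι (cm a b))
      fun b c => by rw [hcm_mul_right, map_mul])
      fun a b => MonoidHom.ext fun c => by
        show ι (cm (a * b) c) = ι (cm a c) * ι (cm b c)
        rw [hcm_mul_left, map_mul]
  have hκskew : ∀ a b : Bg, κ a b = (κ b a)⁻¹ := fun a b => by
    show ι (cm a b) = (ι (cm b a))⁻¹
    rw [hcm_inv, map_inv]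
  haveI : Finite (Bg →* (spanB W A)ˣ) := Finite.of_injective _ DFunLike.coe_injective
  haveI : Finite κ.range := inferInstanceAs (Finite {u // u ∈ κ.range})
  let lift : κ.range → Bg := fun u => Classical.choose u.2
  have hlift : ∀ u : κ.range, κ (lift u) = u.1 := fun u => Classical.choose_spec u.2
  have hskew : ∀ u v : κ.range, u.1 (lift v) = (v.1 (lift u))⁻¹ := fun u v =>
    (DFunLike.congr_fun (hlift u) (lift v)).symm.trans ((hκskew _ _).trans
      (congrArg _ (DFunLike.congr_fun (hlift v) (lift u))))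
  let β : Additive κ.range →+ Additive κ.range →+ Additive (spanB W A)ˣ :=
    { toFun := fun u =>
        { toFun := fun v => Additive.ofMul ((Additive.toMul u).1 (lift (Additive.toMul v)))
          map_zero' := by
            apply Additive.toMul.injective
            show (Additive.toMul u).1 (lift 1) = 1
            rw [hskew]; simp
          map_add' := fun v w => by
            apply Additive.toMul.injective
            show (Additive.toMul u).1 (lift (Additive.toMul v * Additive.toMul w)) =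
              (Additive.toMul u).1 (lift (Additive.toMul v)) *
                (Additive.toMul u).1 (lift (Additive.toMul w))
            rw [hskew, hskew _ (Additive.toMul v), hskew _ (Additive.toMul w)]
            show (((Additive.toMul v).1 * (Additive.toMul w).1) _)⁻¹ = _
            rw [MonoidHom.mul_apply, mul_inv] }
      map_zero' := AddMonoidHom.ext fun v => rfl
      map_add' := fun a b => AddMonoidHom.ext fun v => rfl }
  have hnd : ∀ u, (∀ v, β u v = 0) → u = 0 := by
    intro u hu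
    apply Additive.toMul.injective
    apply Subtype.ext
    refine MonoidHom.ext fun b => ?_
    have h1 : (Additive.toMul u).1 (lift ⟨κ b, ⟨b, rfl⟩⟩) = 1 := hu (Additive.ofMul ⟨κ b, ⟨b, rfl⟩⟩)
    rw [hskew, inv_eq_one] at h1
    have h2 : κ b (lift (Additive.toMul u)) = 1 := h1
    rw [hκskew, inv_eq_one, hlift] at h2
    exact h2
  have hker : ∀ b : Bg, κ b = 1 → b.1 ∈ A := fun b hb => hZ b.1 b.2 fun b' hb' => by
    have h1 : ι (cm b ⟨b', hb'⟩) = 1 := DFunLike.congr_fun hb ⟨b', hb'⟩
    exact commutatorElement_eq_one_iff_mul_comm.1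
      (congrArg Subtype.val (hιinj (h1.trans (map_one ι).symm)))
  -- coprimality to every prime not dividing `2^f-1`
  have hexp : ∀ r : ℕ, r.Prime → r ∣ Nat.card κ.range → r ∣ 2 ^ f - 1 := by
    intro r hr hdvd
    haveI : Fact r.Prime := ⟨hr⟩
    obtain ⟨u, hu⟩ := exists_prime_orderOf_dvd_card' r hdvd
    rw [← hu]
    refine orderOf_dvd_of_pow_eq_one (Subtype.ext (MonoidHom.ext fun b => ?_))
    show ((u : Bg →* (spanB W A)ˣ) ^ (2 ^ f - 1)) b = 1
    rw [MonoidHom.pow_apply]
    have := pow_card_eq_one' (x := (u : Bg →* (spanB W A)ˣ) b)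
    rwa [Nat.card_units, hcardB] at this
  have hnocyc : ∀ u0 : κ.range, (∀ u, u ∈ Subgroup.zpowers u0) → False := by
    intro u0 hgen
    apply hBnc
    intro a ha b hb
    obtain ⟨i, hi⟩ := hgen ⟨κ ⟨a, ha⟩, ⟨_, rfl⟩⟩
    obtain ⟨j, hj⟩ := hgen ⟨κ ⟨b, hb⟩, ⟨_, rfl⟩⟩
    have hi' : κ ⟨a, ha⟩ = u0.1 ^ i := (congrArg Subtype.val hi).symm
    have hj' : κ ⟨b, hb⟩ = u0.1 ^ j := (congrArg Subtype.val hj).symm
    have hz : u0.1 (lift u0) = 1 := by
      rw [← hlift u0]
      show ι (cm (lift u0) (lift u0)) = 1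
      have : cm (lift u0) (lift u0) = 1 := Subtype.ext (commutatorElement_self _)
      rw [this, map_one]
    have h1 : u0.1 ⟨b, hb⟩ = 1 := by
      rw [← hlift u0, hκskew, inv_eq_one, hj', MonoidHom.zpow_apply, hz, one_zpow]
    have h2 : κ ⟨a, ha⟩ ⟨b, hb⟩ = 1 := by rw [hi', MonoidHom.zpow_apply, h1, one_zpow]
    exact commutatorElement_eq_one_iff_mul_comm.1
      (congrArg Subtype.val (hιinj ((show ι (cm ⟨a, ha⟩ ⟨b, hb⟩) = 1 from h2).trans
        (map_one ι).symm)))
  have hUodd : Odd (Nat.card κ.range) :=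
    (h.odd.of_dvd_nat (Subgroup.card_subgroup_dvd_card Bg)).of_dvd_nat (Subgroup.card_range_dvd κ)
  have hU9 : 9 ≤ Nat.card κ.range := by
    by_contra hc
    push Not at hc
    obtain ⟨j, hj⟩ := hUodd
    have : Nat.card κ.range = 1 ∨ Nat.card κ.range = 3 ∨ Nat.card κ.range = 5 ∨
        Nat.card κ.range = 7 := by omega
    rcases this with h1 | h1
    · haveI : Subsingleton κ.range := (Nat.card_eq_one_iff_unique.1 h1).1
      exact hnocyc 1 fun u => by rw [Subsingleton.elim u 1]; exact one_mem _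
    · obtain ⟨r, hr, h1'⟩ : ∃ r : ℕ, r.Prime ∧ Nat.card κ.range = r := by
        rcases h1 with h1 | h1 | h1
        · exact ⟨3, Nat.prime_three, h1⟩
        · exact ⟨5, Nat.prime_five, h1⟩
        · exact ⟨7, by norm_num, h1⟩
      haveI : Fact r.Prime := ⟨hr⟩
      obtain ⟨u0, hu0⟩ := (isCyclic_of_prime_card h1').exists_generator
      exact hnocyc u0 hu0
  -- independence of coset representatives
  haveI : Fintype κ.range := Fintype.ofFinite _
  have hUle : Nat.card κ.range ≤ d * d := by
    let T : κ.range → Module.End (spanB W A) W := fun u => L ⟨(lift u).1, hBC (lift u).2⟩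
    have hT : LinearIndependent (spanB W A) T := by
      rw [Fintype.linearIndependent_iff]
      intro c hc u0
      obtain ⟨w, hw⟩ := exists_ne (0 : W)
      have hTw : T u0 w ≠ 0 := fun h0 => hw (MulAction.injective (lift u0).1 (by
        show (lift u0).1 • w = (lift u0).1 • (0 : W)
        rw [smul_zero]; exact h0))
      obtain ⟨φ, hφ⟩ := Module.Projective.exists_dual_ne_zero (spanB W A) hTw
      have hind := ((linearIndependent_monoidHom Bg (spanB W A)).comp
        (fun u : κ.range => (Units.coeHom (spanB W A)).comp u.1) (fun u v huv => by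
          apply Subtype.ext
          exact MonoidHom.ext fun b => Units.ext (DFunLike.congr_fun huv b)))
      rw [Fintype.linearIndependent_iff] at hind
      have := hind (fun u => c u * φ (T u w)) ?_ u0
      · exact (mul_eq_zero.1 this).resolve_right hφ
      funext b
      rw [Finset.sum_apply]
      simp only [Pi.smul_apply, smul_eq_mul, Function.comp_apply, MonoidHom.coe_comp,
        Units.coeHom_apply, Pi.zero_apply]
      have h1 : ∑ u : κ.range, (c u * (u.1 b : spanB W A)) • T u w = 0 := by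
        apply MulAction.injective b.1
        show b.1 • _ = b.1 • (0 : W)
        rw [smul_zero, Finset.smul_sum]
        have h2 := DFunLike.congr_fun hc (b.1 • w)
        rw [LinearMap.sum_apply, LinearMap.zero_apply] at h2
        refine (Finset.sum_congr rfl fun u _ => ?_).trans h2
        show b.1 • ((c u * (u.1 b : spanB W A)) • T u w) = c u • T u (b.1 • w)
        rw [mul_smul, show b.1 • (c u • ((u.1 b : spanB W A) • T u w)) =
          c u • (b.1 • ((u.1 b : spanB W A) • T u w)) from hlinC b.1 (hBC b.2) (c u) _]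
        congr 1
        show b.1 • ((u.1 b : spanB W A) • ((lift u).1 • w)) = (lift u).1 • b.1 • w
        rw [show b.1 • ((u.1 b : spanB W A) • ((lift u).1 • w)) =
          (u.1 b : spanB W A) • (b.1 • (lift u).1 • w) from hlinC b.1 (hBC b.2) _ _, ← hlift u]
        show (⁅(lift u).1, b.1⁆ : H) • b.1 • (lift u).1 • w = (lift u).1 • b.1 • w
        rw [← mul_smul, ← mul_smul, ← mul_smul]
        congr 1
        rw [commutatorElement_def]
        group
      have h2 := congrArg φ h1
      rw [map_sum, map_zero] at h2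
      refine (Finset.sum_congr rfl fun u _ => ?_).trans h2
      rw [map_smul, smul_eq_mul]
      ring
    have := hT.fintype_card_le_finrank
    rwa [Module.finrank_linearMap, ← hd, ← Nat.card_eq_fintype_card] at this
  have hd4 : d * d ≤ 4 * g * g := by nlinarith
  rcases Nat.lt_or_ge g 2 with hg1 | hg2
  · have h1 : g = 1 := by omega
    rw [h1] at hd4
    omega
  by_cases h63 : n = 6 ∧ f = 3
  · obtain ⟨h6, h3⟩ := h63
    have hg2' : g = 2 := by rw [h6, h3] at hng; omega
    have h7 : ∀ r : ℕ, r.Prime → r ∣ Nat.card κ.range → r = 7 := fun r hr hdvd => by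
      have := hexp r hr hdvd
      rw [h3] at this
      exact (Nat.prime_dvd_prime_iff_eq hr (by norm_num)).1 (by norm_num at this; exact this)
    have hpow := Nat.eq_prime_pow_of_unique_prime_dvd Nat.card_pos.ne' (fun {r} hr hd => h7 r hr hd)
    generalize (Nat.card κ.range).primeFactorsList.length = m at hpow
    rcases m with _ | _ | m
    · omega
    · omega
    · have : 7 ^ 2 ≤ 7 ^ (m + 1 + 1) := Nat.pow_le_pow_right (by norm_num) (by omega)
      rw [hg2'] at hd4
      omega
  obtain ⟨p, hp, hpn, hpg, hpge⟩ := exists_prime hng hf2 hg2 h63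
  have hpf : ¬ p ∣ 2 ^ f - 1 := fun hd => by
    have := Nat.le_of_dvd one_pos (hpg 1 (by rwa [mul_one]))
    omega
  have hp2 : p ≠ 2 := by omega
  set x := y ^ ((2 ^ n - 1) / p) with hx
  have hxp : x ^ p = 1 := by
    rw [hx, ← pow_mul, Nat.div_mul_cancel hpn, ← h.ord, pow_orderOf_eq_one]
  have hx1 : x ≠ 1 := fun hx1 => by
    have := Nat.le_of_dvd (Nat.div_pos (Nat.le_of_dvd (by have := h.two_le_pow; omega) hpn) hp.pos)
      (h.ord ▸ orderOf_dvd_of_pow_eq_one hx1)
    have := Nat.div_lt_self (n := 2 ^ n - 1) (k := p) (by have := h.two_le_pow; omega) hp.one_lt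
    omega
  have hxC : x ∈ C := C.pow_mem hyC _
  -- the automorphism of `κ.range`
  let cx : Bg →* Bg := MonoidHom.mk'
    (fun b => ⟨x⁻¹ * b.1 * x, by simpa using hBn.conj_mem b.1 b.2 x⁻¹⟩)
    (fun a b => Subtype.ext (by show x⁻¹ * (a.1 * b.1) * x = _; simp [mul_assoc]))
  have hκx : ∀ a : Bg, (κ a).comp cx = κ ⟨x * a.1 * x⁻¹, hBn.conj_mem a.1 a.2 x⟩ := fun a =>
    MonoidHom.ext fun b => congrArg ι (Subtype.ext (by
      show ⁅a.1, x⁻¹ * b.1 * x⁆ = ⁅x * a.1 * x⁻¹, b.1⁆
      have h1 := hcen _ (hBA a.1 a.2 (x⁻¹ * b.1 * x) (cx b).2) x hxC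
      calc ⁅a.1, x⁻¹ * b.1 * x⁆ = x * ⁅a.1, x⁻¹ * b.1 * x⁆ * x⁻¹ := by
            rw [← h1, mul_inv_cancel_right]
        _ = _ := by simp only [commutatorElement_def]; group))
  let X : AddMonoid.End (Additive κ.range) :=
    { toFun := fun u => Additive.ofMul ⟨(Additive.toMul u).1.comp cx, by
        rw [← hlift, hκx]; exact ⟨_, rfl⟩⟩
      map_zero' := rfl
      map_add' := fun a b => rfl }
  have hXpow : ∀ (i : ℕ) (u : Additive κ.range) (b : Bg),
      (Additive.toMul ((X ^ i) u)).1 b = (Additive.toMul u).1 (cx^[i] b) := by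
    intro i
    induction i with
    | zero => intro u b; rfl
    | succ i ih =>
      intro u b
      rw [endPow_succ_apply, Function.iterate_succ_apply, ← ih u (cx b)]
      rfl
  have hcxi : ∀ (i : ℕ) (b : Bg), (cx^[i] b).1 = (x ^ i)⁻¹ * b.1 * x ^ i := by
    intro i
    induction i with
    | zero => intro b; simp
    | succ i ih =>
      intro b
      rw [Function.iterate_succ_apply', pow_succ]
      show x⁻¹ * (cx^[i] b).1 * x = _
      rw [ih b]; group
  have hXp : X ^ p = 1 := AddMonoidHom.ext fun u => Additive.toMul.injective (Subtype.ext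
    (MonoidHom.ext fun b => (hXpow p u b).trans
      (congrArg _ (Subtype.ext (by rw [hcxi, hxp]; simp)))))
  have hXinv : ∀ u v, β (X u) (X v) = β u v := by
    intro u v
    apply Additive.toMul.injective
    show (Additive.toMul u).1 (cx (lift (Additive.toMul (X v)))) =
      (Additive.toMul u).1 (lift (Additive.toMul v))
    rw [← hlift (Additive.toMul u), hκskew, hκskew (lift (Additive.toMul u))]
    congr 1
    rw [hlift (Additive.toMul v)]
    have h1 : κ (cx (lift (Additive.toMul (X v)))) = (Additive.toMul v).1 := by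
      refine MonoidHom.ext fun b => ?_
      let b0 : Bg := ⟨x * b.1 * x⁻¹, hBn.conj_mem b.1 b.2 x⟩
      have hb : cx b0 = b := Subtype.ext (by show x⁻¹ * (x * b.1 * x⁻¹) * x = b.1; group)
      have h2 := DFunLike.congr_fun (hlift (Additive.toMul (X v))) b0
      have h3 : κ (lift (Additive.toMul (X v))) b0 = (Additive.toMul v).1 (cx b0) := h2
      rw [hb] at h3
      rw [← h3]
      set a := lift (Additive.toMul (X v))
      refine congrArg ι (Subtype.ext ?_)
      show ⁅x⁻¹ * a.1 * x, b.1⁆ = ⁅a.1, x * b.1 * x⁻¹⁆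
      have h1 := hcen _ (hBA a.1 a.2 (x * b.1 * x⁻¹) b0.2) x⁻¹ (C.inv_mem hxC)
      calc ⁅x⁻¹ * a.1 * x, b.1⁆ = x⁻¹ * ⁅a.1, x * b.1 * x⁻¹⁆ * x⁻¹⁻¹ := by
            simp only [commutatorElement_def]; group
        _ = _ := by rw [← h1, mul_inv_cancel_right]
    rw [h1]
  have hco : (Nat.card (Additive κ.range)).Coprime p := by
    refine Nat.Coprime.symm ((Nat.Prime.coprime_iff_not_dvd hp).2 fun hd => hpf (hexp p hp ?_))
    exact hd
  by_cases hX1 : X = 1
  swap
  · have hb := bichar_bound β (fun u v => Additive.toMul.injective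
      (hskew (Additive.toMul u) (Additive.toMul v))) hnd hUodd hp hp2 hco X hXp hX1 hXinv
    have hb' : (2 * p - 1) ^ 2 ≤ 4 * g * g := hb.trans (hUle.trans hd4)
    have h5 : 2 * (2 * g + 1) - 1 ≤ 2 * p - 1 := by omega
    have := (Nat.pow_le_pow_left h5 2).trans hb'
    rw [show 2 * (2 * g + 1) - 1 = 4 * g + 1 by omega] at this
    nlinarith
  -- `x` centralises `Bg`
  have hxB : ∀ b ∈ Bg, x * b = b * x := by
    intro b hb
    have h1 : κ ⟨x * b * x⁻¹, hBn.conj_mem b hb x⟩ = κ ⟨b, hb⟩ := by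
      rw [← hκx ⟨b, hb⟩]
      have := DFunLike.congr_fun hX1 (Additive.ofMul ⟨κ ⟨b, hb⟩, ⟨_, rfl⟩⟩)
      exact congrArg (fun u => (Additive.toMul u).1) this
    have hz : x * b * x⁻¹ * b⁻¹ ∈ A := by
      have := hker (⟨x * b * x⁻¹, hBn.conj_mem b hb x⟩ * ⟨b, hb⟩⁻¹)
        (by rw [map_mul, map_inv, h1, mul_inv_cancel])
      exact this
    set z := x * b * x⁻¹ * b⁻¹ with hzdef
    have hstep : ∀ i, x ^ i * b * (x ^ i)⁻¹ = z ^ i * b := by
      intro i
      induction i with
      | zero => simp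
      | succ i ih =>
        calc x ^ (i + 1) * b * (x ^ (i + 1))⁻¹ = x * (x ^ i * b * (x ^ i)⁻¹) * x⁻¹ := by
              rw [pow_succ']; group
          _ = x * (z ^ i * b) * x⁻¹ := by rw [ih]
          _ = z ^ i * x * b * x⁻¹ := by
              rw [← mul_assoc x, ← hcen _ (A.pow_mem hz i) x hxC]
          _ = z ^ (i + 1) * b := by rw [pow_succ, hzdef]; group
    have hzp : z ^ p = 1 := by
      have := hstep p
      rw [hxp, one_mul, inv_one, mul_one] at this
      exact mul_eq_right.1 this.symm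
    have hz1 : z = 1 := by
      by_contra hne
      have hord : orderOf z = p :=
        haveI : Fact p.Prime := ⟨hp⟩
        orderOf_eq_prime hzp hne
      exact hpf (hord ▸ (Subgroup.orderOf_dvd_natCard A hz).trans hAcard)
    rw [hzdef, mul_inv_eq_one, mul_inv_eq_iff_eq_mul] at hz1
    exact hz1
  -- `Bg` preserves `[W, y]`
  have hxV : ∀ v ∈ commRange W y, x • v ∈ commRange W y := fun v hv => smul_mem_commRange hv _
  have hxfix : ∀ v ∈ commRange W y, x • v = v → v = 0 := by
    intro v hv hf'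
    by_contra hv0
    exact hx1 (h.free hv hv0 hf')
  have hsurj : ∀ v ∈ commRange W y, ∃ v' ∈ commRange W y, x • v' - v' = v := by
    let Q : commRange W y → commRange W y := fun v =>
      ⟨x • v.1 - v.1, (commRange W y).sub_mem (hxV _ v.2) v.2⟩
    have hQ : Function.Injective Q := fun a b hab => by
      have h1 : x • a.1 - a.1 = x • b.1 - b.1 := congrArg Subtype.val hab
      refine Subtype.ext (sub_eq_zero.1 (hxfix _ ((commRange W y).sub_mem a.2 b.2) ?_))
      rw [smul_sub]; rw [sub_eq_sub_iff_sub_eq_sub] at h1; exact h1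
    intro v hv
    obtain ⟨v', hv'⟩ := (Finite.injective_iff_surjective.1 hQ) ⟨v, hv⟩
    exact ⟨v'.1, v'.2, congrArg Subtype.val hv'⟩
  have hxrange : ∀ (i : ℕ) (w : W), y ^ i • w - w ∈ commRange W y := by
    intro i w
    induction i with
    | zero => simp
    | succ i ih =>
      have : y ^ (i + 1) • w - w = y ^ i • (y • w - w) + (y ^ i • w - w) := by
        rw [smul_sub, ← mul_smul, ← pow_succ]; abel
      rw [this]
      exact add_mem (smul_mem_commRange (sub_mem_commRange y w) i) ih
  have hBV : ∀ b ∈ Bg, ∀ v ∈ commRange W y, b • v ∈ commRange W y := by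
    intro b hb v hv
    obtain ⟨v', -, rfl⟩ := hsurj v hv
    rw [smul_sub, ← mul_smul, ← hxB b hb, mul_smul]
    exact hxrange _ _
  -- `x` is irreducible on `[W, y]`
  let Xl : Module.End (spanB W A) W := L ⟨x, hxC⟩
  have hXl : ∀ (i : ℕ) (w : W), (Xl ^ i) w = x ^ i • w := by
    intro i
    induction i with
    | zero => intro w; simp
    | succ i ih =>
      intro w
      rw [pow_succ', pow_succ', mul_smul, ← ih w]
      rfl
  have hspan : ∀ v ∈ commRange W y, v ≠ 0 →
      Submodule.span (spanB W A) (Set.range fun i : ℕ => (Xl ^ i) v) = Vs := by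
    intro v hv hv0
    set S := Submodule.span (spanB W A) (Set.range fun i : ℕ => (Xl ^ i) v) with hS
    have hSV : S ≤ Vs := Submodule.span_le.2 (by
      rintro w ⟨i, rfl⟩
      show (Xl ^ i) v ∈ Vs
      rw [hXl, hx, ← pow_mul]
      exact smul_mem_commRange hv _)
    have hSx : ∀ w ∈ S, x • w ∈ S := by
      intro w hw
      induction hw using Submodule.span_induction with
      | mem w hw =>
        obtain ⟨i, rfl⟩ := hw
        refine Submodule.subset_span ⟨i + 1, ?_⟩
        show (Xl ^ (i + 1)) v = x • (Xl ^ i) v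
        rw [pow_succ']; rfl
      | zero => rw [smul_zero]; exact zero_mem _
      | add a b _ _ ha hb => rw [smul_add]; exact add_mem ha hb
      | smul c a _ ha =>
        rw [show x • (c • a) = c • (x • a) from hlinC x hxC c a]
        exact S.smul_mem c ha
    have hdvd : p ∣ Nat.card S - 1 := by
      haveI : Fact p.Prime := ⟨hp⟩
      let σ : S → S := fun w => ⟨x • w.1, hSx w.1 w.2⟩
      have hσ : ∀ (i : ℕ) (w : S), (σ^[i] w).1 = x ^ i • w.1 := by
        intro i
        induction i with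
        | zero => intro w; simp
        | succ i ih =>
          intro w
          rw [Function.iterate_succ_apply', pow_succ', mul_smul, ← ih w]
      exact dvd_card_sub_one p σ (funext fun w => Subtype.ext (by rw [hσ, hxp, one_smul]; rfl))
        (Subtype.ext (smul_zero x))
        fun w hw => Subtype.ext (hxfix w.1 (hSV w.2) (congrArg Subtype.val hw))
    rw [Module.natCard_eq_pow_finrank (K := spanB W A), hcardB, ← pow_mul] at hdvd
    have hge := hpg _ hdvd
    have hpos : 0 < Module.finrank (spanB W A) S := by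
      haveI : Nontrivial S := ⟨⟨⟨v, Submodule.subset_span ⟨0, by simp⟩⟩, 0,
        fun he => hv0 (congrArg Subtype.val he)⟩⟩
      exact Module.finrank_pos
    exact Submodule.eq_of_le_of_finrank_le hSV (Nat.le_of_dvd hpos hge)
  -- commutators act trivially
  apply hBnc
  intro a ha b hb
  obtain ⟨v, hv, hv0⟩ : ∃ v ∈ commRange W y, v ≠ 0 := by
    by_contra hc
    push Not at hc
    have := h.card_comm
    rw [(AddSubgroup.eq_bot_iff_forall _).2 hc, AddSubgroup.card_bot] at this
    have := h.two_le_pow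
    omega
  have hcomm : a • b • v = b • a • v := by
    have hc : ∀ (c : H) (hc : c ∈ Bg), Commute Xl (L ⟨c, hBC hc⟩) := fun c hc =>
      LinearMap.ext fun w => by
        show x • c • w = c • x • w
        rw [← mul_smul, hxB c hc, mul_smul]
    exact comm_on_cyclic Xl (L ⟨a, hBC ha⟩) (L ⟨b, hBC hb⟩) (hc a ha) (hc b hb) v
      (by rw [hspan v hv hv0]; exact hBV a ha v hv) (by rw [hspan v hv hv0]; exact hBV b hb v hv)
  have hfixv : ⁅a, b⁆ • (b • a • v) = b • a • v := by
    conv_rhs => rw [← hcomm]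
    rw [← mul_smul, ← mul_smul, ← mul_smul]
    congr 1
    rw [commutatorElement_def]; group
  have hv' : b • a • v ≠ 0 := by
    intro h0
    exact hv0 (by simpa [smul_eq_zero_iff_eq] using h0)
  let e : spanB W A := ⟨actEnd W ⁅a, b⁆, actEnd_mem (hBA a ha b hb)⟩ - 1
  have he0 : e = 0 := by
    by_contra hne
    have h2 : (e⁻¹).1 (e.1 (b • a • v)) = b • a • v :=
      DFunLike.congr_fun (congrArg Subtype.val (inv_mul_cancel₀ hne)) (b • a • v)
    have hek : e.1 (b • a • v) = 0 := by
      show ⁅a, b⁆ • (b • a • v) - (b • a • v) = 0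
      rw [hfixv, sub_self]
    rw [hek, map_zero] at h2
    exact hv' h2.symm
  exact commutatorElement_eq_one_iff_mul_comm.1
    (hinj ((congrArg Subtype.val (sub_eq_zero.1 he0)).trans (map_one _).symm))

end Cfsg.Agent.H18.Walter
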