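import Cfsg.Agent.H18.Walter.LinMul
import Cfsg.Agent.H88.Walter.Data
import Cfsg.Agent.S0205

/-!
The linear lemma in the form of the reduction hypothesis on the normaliser of an elementary
abelian subgroup.
-/

set_option autoImplicit false

namespace Cfsg.Agent.H18.Walter

open Subgroup

universe u

/-- `H88.Walter.RedHyp` holds. -/
theorem redHyp : H88.Walter.RedHyp.{u} := by
  intro G _ _ A Q V hA h16 hodd hQA hVA hdisj hsup hQ1 hle ⟨n, hn, hnQ, hnV, hntrans⟩
  haveI : IsMulCommutative A := hA.1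
  letI : CommGroup A := { (inferInstance : Group A) with mul_comm := fun a b => hA.1.is_comm.comm a b }
  let φ : normalizer (A : Set G) →* MulAut A := A.normalizerMonoidHom
  have hφ : ∀ (m : normalizer (A : Set G)) (a : A), ((φ m a : A) : G) = m.1 * a.1 * m.1⁻¹ :=
    fun m a => rfl
  have hHodd : Odd (Nat.card φ.range) := by
    rw [Nat.odd_iff]
    by_contra hev
    obtain ⟨⟨e, m, rfl⟩, he⟩ := exists_prime_orderOf_dvd_card' (G := φ.range) 2
      (by omega : 2 ∣ Nat.card φ.range)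
    obtain ⟨k, hk, hmk⟩ := hodd m.1 m.2
    have h1 : φ (m ^ k) = 1 := MulEquiv.ext fun a => Subtype.ext (by
      rw [hφ, SubmonoidClass.coe_pow]
      show m.1 ^ k * a.1 * (m.1 ^ k)⁻¹ = a.1
      rw [← mem_centralizer_iff.1 hmk a.1 a.2, mul_inv_cancel_right])
    have h2 : orderOf (φ m) ∣ k := orderOf_dvd_of_pow_eq_one (by rw [← map_pow]; exact h1)
    rw [← Subgroup.orderOf_coe] at he
    rw [he] at h2
    obtain ⟨j, hj⟩ := hk
    omega
  haveI : Group.IsSolvable φ.range := Cfsg.Agent.S0205.result hHodd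
  have hτ : φ ⟨n, hn⟩ ∈ φ.range := ⟨_, rfl⟩
  have hpow : ∀ (i : ℕ) (a : A), (((φ ⟨n, hn⟩ ^ i) a : A) : G) = n ^ i * a.1 * (n ^ i)⁻¹ :=
    fun i a => by rw [← map_pow, hφ, SubmonoidClass.coe_pow]
  have hcompl : IsCompl (Q.subgroupOf A) (V.subgroupOf A) := by
    constructor
    · rw [disjoint_iff]
      refine eq_bot_iff.2 fun x hx => Subtype.ext ?_
      have h1 : x.1 ∈ V ⊓ Q := ⟨hx.2, hx.1⟩
      rw [hdisj] at h1
      exact mem_bot.1 h1
    · rw [codisjoint_iff, ← subgroupOf_sup hQA hVA, sup_comm, hsup, subgroupOf_self]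
  have hcard : ∀ {B : Subgroup G}, B ≤ A → Nat.card (B.subgroupOf A) = Nat.card B := fun hB =>
    Nat.card_congr (subgroupOfEquivOfLe hB).toEquiv
  obtain ⟨X, hX0, hXtop, hXinv⟩ := exists_invariant (W := A)
    (fun w => Subtype.ext ((sq (w : G)).symm.trans (hA.2 w.1 w.2)))
    h16 φ.range hHodd (φ ⟨n, hn⟩) hτ (Q.subgroupOf A) (V.subgroupOf A)
    (fun h => hQ1 (by rwa [subgroupOf_eq_bot, disjoint_iff, inf_eq_left.2 hQA] at h))
    (fun q hq => Subtype.ext (hnQ q.1 hq))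
    (fun v hv => hnV v.1 hv)
    (fun v hv hv1 w hw hw1 => by
      obtain ⟨k, hk⟩ := hntrans v.1 hv w.1 hw (fun h => hv1 (OneMemClass.coe_eq_one.1 h))
        (fun h => hw1 (OneMemClass.coe_eq_one.1 h))
      exact ⟨k, Subtype.ext ((hpow k v).trans hk)⟩)
    hcompl (by rw [hcard hQA, hcard hVA]; exact hle)
  refine ⟨X.map A.subtype, map_subtype_le X, ?_, ?_, ?_⟩
  · rw [Ne, map_eq_bot_iff_of_injective _ A.subtype_injective]; exact hX0
  · intro h
    apply hXtop
    apply map_injective A.subtype_injective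
    rw [h, ← MonoidHom.range_eq_map, range_subtype]
  · intro m hm
    rw [mem_normalizer_iff]
    intro x
    constructor
    · rintro ⟨a, ha, rfl⟩
      exact ⟨φ ⟨m, hm⟩ a, hXinv _ ⟨_, rfl⟩ a ha, hφ _ a⟩
    · rintro ⟨a, ha, he⟩
      refine ⟨φ ⟨m⁻¹, inv_mem hm⟩ a, hXinv _ ⟨_, rfl⟩ a ha, ?_⟩
      show ((φ ⟨m⁻¹, inv_mem hm⟩ a : A) : G) = x
      rw [hφ]
      have he' : a.1 = m * x * m⁻¹ := he
      rw [he']; group

end Cfsg.Agent.H18.Walter
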